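import Mathlib

/-!
# Linear certificates for extensions by a module of dimension eleven over two elements

The lifts of some elements of a group satisfy known relations up to tails in the module. Two ways of
rewriting one word give linear equations between the tails; a certificate solves them.
-/

set_option autoImplicit false

namespace Cfsg.Agent.Lib.TailCert

/-- The pairing of a mask with a vector, in the first `n` places. -/
def dot (n m : ℕ) (v : ℕ → ZMod 2) : ZMod 2 :=
  ∑ i ∈ Finset.range n, if m.testBit i then v i else 0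

theorem dot_zero_mask (n : ℕ) (v : ℕ → ZMod 2) : dot n 0 v = 0 := by simp [dot]

theorem dot_xor (n a b : ℕ) (v : ℕ → ZMod 2) : dot n (a ^^^ b) v = dot n a v + dot n b v := by
  rw [dot, dot, dot, ← Finset.sum_add_distrib]
  refine Finset.sum_congr rfl fun i _ => ?_
  rw [Nat.testBit_xor]
  cases a.testBit i <;> cases b.testBit i <;> simp [CharTwo.add_self_eq_zero]

theorem dot_single (n j : ℕ) (hj : j < n) (v : ℕ → ZMod 2) : dot n (1 <<< j) v = v j := by
  rw [dot, Finset.sum_eq_single j]
  · simp [Nat.one_shiftLeft]
  · intro i _ hij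
    simp [Nat.one_shiftLeft, Ne.symm hij]
  · intro h; exact absurd (Finset.mem_range.2 hj) h

theorem dot_shift (n d w m : ℕ) (hd : d + w ≤ n) (hm : m < 2 ^ w) (v : ℕ → ZMod 2) :
    dot n (m <<< d) v = dot w m fun i => v (d + i) := by
  rw [dot, dot]
  have hr : Finset.range n = Finset.range (d + (n - d)) := by rw [Nat.add_sub_cancel' (by omega)]
  rw [hr, Finset.sum_range_add]
  have h1 : ∀ i ∈ Finset.range d, (if (m <<< d).testBit i then v i else 0) = 0 := by
    intro i hi
    rw [Nat.testBit_shiftLeft]
    simp [Nat.not_le.2 (Finset.mem_range.1 hi)]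
  rw [Finset.sum_eq_zero h1, zero_add]
  symm
  refine Finset.sum_subset_zero_on_sdiff (Finset.range_subset_range.2 (by omega)) (fun i hi => ?_)
    fun i _ => ?_
  · rw [Finset.mem_sdiff, Finset.mem_range, Finset.mem_range] at hi
    rw [Nat.testBit_shiftLeft, Nat.add_sub_cancel_left, Nat.testBit_lt_two_pow
      (lt_of_lt_of_le hm (Nat.pow_le_pow_right (by norm_num) (by omega)))]
    simp
  · rw [Nat.testBit_shiftLeft, Nat.add_sub_cancel_left]
    simp

/-- The combination of rows chosen by a mask. -/
def xcomb : List ℕ → ℕ → ℕ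
  | [], _ => 0
  | r :: rs, m => (if m.testBit 0 then r else 0) ^^^ xcomb rs (m >>> 1)

theorem dot_xcomb (n : ℕ) (v : ℕ → ZMod 2) : ∀ (rs : List ℕ) (m : ℕ),
    dot n (xcomb rs m) v = dot rs.length m fun i => dot n (rs.getD i 0) v
  | [], m => by simp [xcomb, dot]
  | r :: rs, m => by
    rw [xcomb, dot_xor, dot_xcomb n v rs]
    conv_rhs => rw [dot, List.length_cons, Finset.sum_range_succ']
    rw [add_comm]
    congr 1
    · refine Finset.sum_congr rfl fun i _ => ?_
      rw [Nat.testBit_shiftRight, Nat.add_comm 1 i, List.getD_cons_succ]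
    · cases m.testBit 0 <;> simp [dot_zero_mask]

theorem dot_xcomb_eq_zero (n : ℕ) (v : ℕ → ZMod 2) (rs : List ℕ) (m : ℕ)
    (h : ∀ r ∈ rs, dot n r v = 0) : dot n (xcomb rs m) v = 0 := by
  rw [dot_xcomb]
  refine Finset.sum_eq_zero fun i hi => ?_
  dsimp only
  rw [List.getD_eq_getElem _ _ (Finset.mem_range.1 hi), h _ (List.getElem_mem _)]
  simp

theorem getD_zeros (n o : ℕ) : (List.replicate n 0).getD o 0 = 0 := by
  rw [List.getD_eq_getElem?_getD, List.getElem?_replicate]
  split_ifs <;> rfl

/-- The sublist chosen by a mask. -/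
def pick : List ℕ → ℕ → List ℕ
  | [], _ => []
  | r :: rs, m => if m.testBit 0 then r :: pick rs (m >>> 1) else pick rs (m >>> 1)

theorem mem_pick {r : ℕ} : ∀ {rs : List ℕ} {m : ℕ}, r ∈ pick rs m → r ∈ rs
  | [], m, h => by simp [pick] at h
  | a :: rs, m, h => by
    rw [pick] at h
    split_ifs at h
    · rcases List.mem_cons.1 h with h | h
      · exact h ▸ List.mem_cons_self ..
      · exact List.mem_cons_of_mem _ (mem_pick h)
    · exact List.mem_cons_of_mem _ (mem_pick h)

/-- The vector given by masks of linear forms. -/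
def lvec (n : ℕ) (L : List ℕ) (U : ℕ → ZMod 2) : ℕ → ZMod 2 := fun o => dot n (L.getD o 0) U

/-- The data: relations between words, and the matrices of the symbols. -/
structure Data where
  /-- The relations. -/
  rules : List (List ℕ × List ℕ)
  /-- For each symbol the eleven rows of its matrix. -/
  mats : List (List ℕ)

namespace Data

variable (D : Data)

/-- The number of unknown bits. -/
def nv : ℕ := 11 * D.rules.length

/-- The rows of the matrix of a symbol; unknown symbols act trivially. -/
def mat (s : ℕ) : List ℕ :=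
  if s < D.mats.length then D.mats.getD s [] else (List.range 11).map fun o => 1 <<< o

/-- The rows of the matrix of a word. -/
def pmat : List ℕ → List ℕ
  | [] => (List.range 11).map fun o => 1 <<< o
  | s :: p => (List.range 11).map fun o => xcomb (pmat p) ((D.mat s).getD o 0)

/-- A relation, read in one of the two directions. -/
def side (k : ℕ) (b : Bool) : List ℕ × List ℕ :=
  let r := D.rules.getD k ([], [])
  if b then (r.2, r.1) else r

/-- Rewrites a word, keeping the linear form of the tail. -/
def derive : List ℕ → List (ℕ × ℕ × Bool) → Option (List ℕ × List ℕ)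
  | w, [] => some (w, List.replicate 11 0)
  | w, (pos, k, b) :: d =>
    if k < D.rules.length && ((w.drop pos).take (D.side k b).1.length == (D.side k b).1) then
      match derive (w.take pos ++ (D.side k b).2 ++ w.drop (pos + (D.side k b).1.length)) d with
      | none => none
      | some (f, L) =>
        some (f, (List.range 11).map fun o =>
          ((D.pmat (w.take pos)).getD o 0 % 2 ^ 11) <<< (11 * k) ^^^ L.getD o 0)
    else none

/-- The rows of the equation given by two derivations from one word. -/
def eqRows (e : List ℕ × List (ℕ × ℕ × Bool) × List (ℕ × ℕ × Bool)) : List ℕ :=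
  match D.derive e.1 e.2.1, D.derive e.1 e.2.2 with
  | some (f, L), some (g, M) =>
    if f == g then (List.range 11).map fun o => L.getD o 0 ^^^ M.getD o 0 else []
  | _, _ => []

/-- The tail of a word after shifting the lifts. -/
def deltaL (K : List (List ℕ)) : List ℕ → List ℕ
  | [] => List.replicate 11 0
  | s :: w => (List.range 11).map fun o =>
      (K.getD s []).getD o 0 ^^^ xcomb (deltaL K w) ((D.mat s).getD o 0)

/-- The target form of a relation. -/
def target (K : List (List ℕ)) (psi : ℕ) (t0 : List ℕ) (k o : ℕ) : ℕ :=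
  (D.deltaL K (D.rules.getD k ([], [])).1).getD o 0 ^^^
    (D.deltaL K (D.rules.getD k ([], [])).2).getD o 0 ^^^ (1 <<< (11 * k + o)) ^^^
    if (t0.getD k 0).testBit o then psi else 0

/-- The solved system. -/
def solveOK (rows : List ℕ) (K : List (List ℕ)) (psi : ℕ) (t0 : List ℕ) (comb : List (List ℕ))
    (nrel : ℕ) : Bool :=
  decide (nrel ≤ D.rules.length) &&
    (List.range nrel).all fun k => (List.range 11).all fun o =>
      D.target K psi t0 k o == xcomb rows ((comb.getD k []).getD o 0)

/-- The shapes of the matrices. -/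
def shapeOK : Bool :=
  D.mats.all fun M => M.length == 11

variable {E : Type*} [Group E]

/-- Evaluation of a word. -/
def ev (X : ℕ → E) (w : List ℕ) : E := (w.map X).prod

/-- The action of a matrix. -/
def mact (s : ℕ) (v : ℕ → ZMod 2) : ℕ → ZMod 2 := fun o => dot 11 ((D.mat s).getD o 0) v

/-- A coordinate frame of the module inside the group, with lifts of the symbols. -/
structure Frame (iota : (ℕ → ZMod 2) → E) (X : ℕ → E) (U : ℕ → ZMod 2) : Prop where
  add : ∀ a b, iota (a + b) = iota a * iota b
  inj : ∀ a b, iota a = iota b → ∀ i < 11, a i = b i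
  congr : ∀ a b, (∀ i < 11, a i = b i) → iota a = iota b
  act : ∀ s v, X s * iota v = iota (D.mact s v) * X s
  sat : ∀ k < D.rules.length, ev X (D.rules.getD k ([], [])).1 =
    iota (fun o => U (11 * k + o)) * ev X (D.rules.getD k ([], [])).2

variable {D} {iota : (ℕ → ZMod 2) → E} {X : ℕ → E} {U : ℕ → ZMod 2}

theorem ev_append (u v : List ℕ) : ev X (u ++ v) = ev X u * ev X v := by
  simp [ev, List.map_append, List.prod_append]

theorem Frame.zero (F : D.Frame iota X U) : iota 0 = 1 := by
  have h := F.add 0 0
  rw [add_zero] at h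
  exact left_eq_mul.1 h

theorem Frame.self_mul (F : D.Frame iota X U) (a : ℕ → ZMod 2) : iota a * iota a = 1 := by
  rw [← F.add, show a + a = 0 from funext fun i => CharTwo.add_self_eq_zero _, F.zero]

theorem Frame.comm (F : D.Frame iota X U) (a b : ℕ → ZMod 2) :
    iota a * iota b = iota b * iota a := by rw [← F.add, ← F.add, add_comm]

theorem Frame.push (F : D.Frame iota X U) : ∀ (p : List ℕ) (v : ℕ → ZMod 2),
    ev X p * iota v = iota (lvec 11 (D.pmat p) v) * ev X p
  | [], v => by
    rw [ev, List.map_nil, List.prod_nil, one_mul, mul_one]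
    refine F.congr _ _ fun i hi => ?_
    rw [lvec, pmat, List.getD_eq_getElem _ _ (by simpa using hi), List.getElem_map,
      List.getElem_range, dot_single _ _ hi]
  | s :: p, v => by
    have e : ev X (s :: p) = X s * ev X p := by simp [ev]
    rw [e, mul_assoc, F.push p v, ← mul_assoc, F.act, mul_assoc]
    congr 1
    refine F.congr _ _ fun i hi => ?_
    have hlen : (D.pmat p).length = 11 := by cases p <;> simp [pmat]
    show dot 11 ((D.mat s).getD i 0) (lvec 11 (D.pmat p) v) =
      lvec 11 (D.pmat (s :: p)) v i
    rw [lvec, pmat, List.getD_eq_getElem ((List.range 11).map _) _ (by simpa using hi),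
      List.getElem_map, List.getElem_range, dot_xcomb, hlen]
    rfl

theorem getD_map_range (f : ℕ → ℕ) {o : ℕ} (ho : o < 11) :
    ((List.range 11).map f).getD o 0 = f o := by
  rw [List.getD_eq_getElem _ _ (by simpa using ho), List.getElem_map, List.getElem_range]

theorem Frame.derive_sound (F : D.Frame iota X U) : ∀ (d : List (ℕ × ℕ × Bool)) (w f L : List ℕ),
    D.derive w d = some (f, L) → ev X w = iota (lvec D.nv L U) * ev X f
  | [], w, f, L, h => by
    simp only [derive, Option.some.injEq, Prod.mk.injEq] at h
    obtain ⟨rfl, rfl⟩ := h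
    rw [show lvec D.nv (List.replicate 11 0) U = 0 from funext fun o => ?_, F.zero, one_mul]
    show dot _ _ U = 0
    rw [getD_zeros, dot_zero_mask]
  | (pos, k, b) :: d, w, f, L, h => by
    rw [derive] at h
    split_ifs at h with hc
    simp only [Bool.and_eq_true, decide_eq_true_eq, beq_iff_eq] at hc
    obtain ⟨hk, hw⟩ := hc
    cases hd : D.derive (w.take pos ++ (D.side k b).2 ++ w.drop (pos + (D.side k b).1.length)) d with
    | none => rw [hd] at h; simp at h
    | some r =>
      obtain ⟨g, M⟩ := r
      rw [hd] at h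
      simp only [Option.some.injEq, Prod.mk.injEq] at h
      obtain ⟨rfl, rfl⟩ := h
      have ih := F.derive_sound d _ _ _ hd
      have hrel : ev X (D.side k b).1 = iota (fun o => U (11 * k + o)) * ev X (D.side k b).2 := by
        rw [side]
        cases b
        · exact F.sat k hk
        · show ev X (D.rules.getD k ([], [])).2 = _ * ev X (D.rules.getD k ([], [])).1
          rw [F.sat k hk, ← mul_assoc, F.self_mul, one_mul]
      have hsplit : ev X w = ev X (w.take pos) *
          (ev X (D.side k b).1 * ev X (w.drop (pos + (D.side k b).1.length))) := by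
        conv_lhs => rw [← List.take_append_drop pos w, ev_append,
          ← List.take_append_drop (D.side k b).1.length (w.drop pos), ev_append, hw, List.drop_drop]
      rw [hsplit, hrel, mul_assoc, ← mul_assoc (ev X (w.take pos)), F.push, mul_assoc,
        ← ev_append, ← ev_append, ← List.append_assoc, ih, ← mul_assoc, ← F.add]
      congr 1
      refine F.congr _ _ fun o ho => ?_
      show lvec 11 (D.pmat (w.take pos)) _ o + lvec D.nv M U o = lvec D.nv _ U o
      simp only [lvec, getD_map_range _ ho]
      rw [dot_xor, dot_shift D.nv (11 * k) 11 _ (by unfold nv; omega) (Nat.mod_lt _ (by norm_num))]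
      congr 1
      refine Finset.sum_congr rfl fun i hi => ?_
      rw [Nat.testBit_mod_two_pow]
      simp [Finset.mem_range.1 hi]

theorem Frame.eq_rows (F : D.Frame iota X U)
    {e : List ℕ × List (ℕ × ℕ × Bool) × List (ℕ × ℕ × Bool)} {r : ℕ} (hr : r ∈ D.eqRows e) :
    dot D.nv r U = 0 := by
  unfold eqRows at hr
  split at hr
  next f L g M h1 h2 =>
    split_ifs at hr with hfg
    · rw [beq_iff_eq] at hfg
      subst hfg
      obtain ⟨o, ho, rfl⟩ := List.mem_map.1 hr
      have e1 := F.derive_sound _ _ _ _ h1
      have e2 := F.derive_sound _ _ _ _ h2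
      have he := F.inj _ _ (mul_right_cancel (e1.symm.trans e2)) o (List.mem_range.1 ho)
      rw [dot_xor, show dot D.nv (L.getD o 0) U = dot D.nv (M.getD o 0) U from he,
        CharTwo.add_self_eq_zero]
    · simp at hr
  next => simp at hr

theorem Frame.delta (F : D.Frame iota X U) (m : ℕ) (W : ℕ → ZMod 2) (K : List (List ℕ)) :
    ∀ w : List ℕ,
    ev (fun s => iota (lvec m (K.getD s []) W) * X s) w =
      iota (lvec m (D.deltaL K w) W) * ev X w
  | [] => by
    simp only [ev, List.map_nil, List.prod_nil, mul_one]
    rw [show lvec m (D.deltaL K []) W = 0 from funext fun o => ?_, F.zero]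
    show dot _ ((List.replicate 11 0).getD o 0) W = 0
    rw [getD_zeros, dot_zero_mask]
  | s :: w => by
    have ih := F.delta m W K w
    simp only [ev, List.map_cons, List.prod_cons] at ih ⊢
    rw [ih, mul_assoc, ← mul_assoc (X s), F.act, ← mul_assoc, ← mul_assoc, ← F.add, mul_assoc]
    congr 1
    refine F.congr _ _ fun o ho => ?_
    have hlen : (D.deltaL K w).length = 11 := by cases w <;> simp [deltaL]
    show lvec m (K.getD s []) W o + D.mact s (lvec m (D.deltaL K w) W) o = _
    simp only [lvec, deltaL, getD_map_range _ ho, mact]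
    rw [dot_xor, dot_xcomb, hlen]
    rfl

/-- The shifted lifts satisfy the relations up to a multiple of the given tails. -/
theorem Frame.solve (F : D.Frame iota X U) {rows : List ℕ}
    (hrows : ∀ r ∈ rows, dot D.nv r U = 0) {K : List (List ℕ)} {psi : ℕ} {t0 : List ℕ}
    {comb : List (List ℕ)} {nrel : ℕ} (h : D.solveOK rows K psi t0 comb nrel = true) {k : ℕ}
    (hk : k < nrel) :
    ev (fun s => iota (lvec D.nv (K.getD s []) U) * X s) (D.rules.getD k ([], [])).1 =
      iota (fun o => dot D.nv psi U * if (t0.getD k 0).testBit o then 1 else 0) *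
        ev (fun s => iota (lvec D.nv (K.getD s []) U) * X s) (D.rules.getD k ([], [])).2 := by
  simp only [solveOK, Bool.and_eq_true, decide_eq_true_eq, List.all_eq_true, List.mem_range,
    beq_iff_eq] at h
  have hk' : k < D.rules.length := lt_of_lt_of_le hk h.1
  rw [F.delta D.nv U, F.delta D.nv U, F.sat k hk']
  simp only [← mul_assoc, ← F.add]
  congr 1
  refine F.congr _ _ fun o ho => ?_
  have hz : dot D.nv (D.target K psi t0 k o) U = 0 := by
    rw [h.2 k hk o ho]; exact dot_xcomb_eq_zero _ _ _ _ hrows
  rw [target, dot_xor, dot_xor, dot_xor, dot_single _ _ (by unfold nv; omega)] at hz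
  simp only [Pi.add_apply, lvec]
  have hcase : dot D.nv (if (t0.getD k 0).testBit o then psi else 0) U =
      dot D.nv psi U * if (t0.getD k 0).testBit o then 1 else 0 := by
    split_ifs <;> simp [dot_zero_mask]
  rw [← hcase]
  have key : ∀ a b c e : ZMod 2, a + b + c + e = 0 → a + c = e + b := by decide
  exact key _ _ _ _ hz

/-! ### Closing up a finite set under exact relations -/

/-- One rewriting step at the leftmost possible place. -/
def rstep (R : List (List ℕ × List ℕ)) : List ℕ → List ℕ
  | [] => []
  | [a] => [a]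
  | a :: b :: w =>
    match R.find? fun r => r.1 == [a, b] with
    | some r => r.2 ++ w
    | none => a :: rstep R (b :: w)

/-- Repeated rewriting. -/
def rcollect (R : List (List ℕ × List ℕ)) : ℕ → List ℕ → List ℕ
  | 0, w => w
  | f + 1, w => rcollect R f (rstep R w)

/-- The normal word with given code. -/
def nword (n k : ℕ) : List ℕ := (List.range n).filter fun i => k.testBit i

/-- The normal words are closed under the generators. -/
def closedOK (R : List (List ℕ × List ℕ)) (n : ℕ) : Bool :=
  (List.range (2 ^ n)).all fun k => (List.range n).all fun i =>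
    let r := rcollect R 100 (nword n k ++ [i])
    let c := (r.map fun j => 2 ^ j).sum
    decide (c < 2 ^ n) && r == nword n c

theorem rstep_sound {R : List (List ℕ × List ℕ)} {Y : ℕ → E}
    (hR : ∀ r ∈ R, ev Y r.1 = ev Y r.2) : ∀ w, ev Y (rstep R w) = ev Y w
  | [] => rfl
  | [a] => rfl
  | a :: b :: w => by
    rw [rstep]
    cases hf : R.find? fun r => r.1 == [a, b] with
    | some r =>
      have hm := List.mem_of_find?_eq_some hf
      have he := List.find?_some hf
      rw [beq_iff_eq] at he
      show ev Y (r.2 ++ w) = _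
      rw [show a :: b :: w = [a, b] ++ w from rfl, ev_append, ev_append, ← hR r hm, he]
    | none =>
      show ev Y (a :: rstep R (b :: w)) = _
      have ih := rstep_sound hR (b :: w)
      simp only [ev, List.map_cons, List.prod_cons] at ih ⊢
      rw [ih]

theorem rcollect_sound {R : List (List ℕ × List ℕ)} {Y : ℕ → E}
    (hR : ∀ r ∈ R, ev Y r.1 = ev Y r.2) : ∀ f w, ev Y (rcollect R f w) = ev Y w
  | 0, _ => rfl
  | f + 1, w => by rw [rcollect, rcollect_sound hR f, rstep_sound hR]

/-- Elements with exact relations generate a group no larger than the set of normal words. -/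
theorem card_closure_le [Finite E] {R : List (List ℕ × List ℕ)} {n : ℕ} {Y : ℕ → E}
    (hR : ∀ r ∈ R, ev Y r.1 = ev Y r.2) (hc : closedOK R n = true) :
    Nat.card (Subgroup.closure (Y '' {i | i < n})) ≤ 2 ^ n := by
  classical
  set T : Set E := (fun k => ev Y (nword n k)) '' {k | k < 2 ^ n}
  simp only [closedOK, List.all_eq_true, List.mem_range, Bool.and_eq_true, decide_eq_true_eq,
    beq_iff_eq] at hc
  have hmul : ∀ t ∈ T, ∀ i < n, t * Y i ∈ T := by
    rintro _ ⟨k, hk, rfl⟩ i hi
    obtain ⟨h1, h2⟩ := hc k hk i hi
    refine ⟨_, h1, ?_⟩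
    show ev Y (nword n _) = _
    rw [← h2, rcollect_sound hR, ev_append]
    simp [ev]
  have hinv : ∀ t ∈ T, ∀ i < n, t * (Y i)⁻¹ ∈ T := by
    intro t ht i hi
    have hfin : T.Finite := Set.toFinite _
    have heq : (fun x => x * Y i) '' T = T := Set.eq_of_subset_of_ncard_le
      (by rintro _ ⟨x, hx, rfl⟩; exact hmul x hx i hi)
      (Set.ncard_image_of_injective _ (mul_left_injective _)).ge hfin
    rw [← heq] at ht
    obtain ⟨x, hx, rfl⟩ := ht
    simpa using hx
  have hsub : (Subgroup.closure (Y '' {i | i < n}) : Set E) ⊆ T := by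
    intro x hx
    induction hx using Subgroup.closure_induction_right with
    | one =>
      refine ⟨0, Nat.two_pow_pos n, ?_⟩
      simp [nword, ev]
    | mul_right x _ y hy ih =>
      obtain ⟨i, hi, rfl⟩ := hy
      exact hmul x ih i hi
    | mul_inv_cancel x _ y hy ih =>
      obtain ⟨i, hi, rfl⟩ := hy
      exact hinv x ih i hi
  rw [← SetLike.coe_sort_coe, Nat.card_coe_set_eq]
  refine (Set.ncard_le_ncard hsub (Set.toFinite _)).trans ((Set.ncard_image_le ?_).trans_eq ?_)
  · exact Set.finite_lt_nat _
  · rw [show {k : ℕ | k < 2 ^ n} = (Finset.range (2 ^ n) : Set ℕ) by ext; simp, Set.ncard_coe_finset,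
      Finset.card_range]

end Data

end Cfsg.Agent.Lib.TailCert
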