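import Mathlib

/-! # Coordinate forms on the two modules of the binary code -/

set_option autoImplicit false

namespace Cfsg.Agent.Lib.TailCert.Mathieu

/-- Masks of the coordinate forms of the code module. -/
def coordCode : List ℕ :=
  [4194304, 1048576, 2097152, 262144, 524288, 32768, 65536, 131072, 16384, 4096, 8192]

/-- Masks of the coordinate forms of the cocode module. -/
def coordCocode : List ℕ :=
  [2422785, 4845570, 3610628, 7221256, 7903248, 5621792, 1009728, 2019456, 4038912, 8077824, 5405696]

end Cfsg.Agent.Lib.TailCert.Mathieu
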