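import Cfsg.Agent.Lib.TailCert.MathieuData
import Cfsg.Agent.Lib.TailCert.CoordData
import Cfsg.Agent.Lib.SchurMult.GolayEngine
import Cfsg.Agent.Lib.Golay.Simple

/-! # The kernel checks of the certificates for `M23` -/

set_option autoImplicit false
set_option maxRecDepth 100000

namespace Cfsg.Agent.Lib.TailCert.Mathieu

open Cfsg Cfsg.Agent.Lib.Golay

/-- The parity form of a mask. -/
def coord (f : ℕ) (w : GolayPt → ZMod 2) : ZMod 2 :=
  ∑ x : GolayPt, if f.testBit (ix x) then w x else 0

/-- The column of a matrix given by rows. -/
def colMask (M : List ℕ) (i : ℕ) : ℕ :=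
  (List.range 11).foldr (fun o acc => (if (M.getD o 0).testBit i then 1 <<< o else 0) ^^^ acc) 0

/-- The symbols: the Sylow generators, then the conjugating elements. -/
def symCode : List ℕ := gens23 ++ conjCode

/-- The symbols: the Sylow generators, then the conjugating elements. -/
def symCocode : List ℕ := gens23 ++ conjCocode

/-- The group part of a certificate. -/
def groupOK (D : Data) (sym : List ℕ) : Bool :=
  sym.all (inStab [] (1 <<< 23)) && (D.mats.length == sym.length) &&
    D.rules.all fun r => (r.1 ++ r.2).all (fun s => decide (s < sym.length)) &&
      SchurMult.GolayEngine.same (r.1.map fun s => sym.getD s idCode)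
        (r.2.map fun s => sym.getD s idCode)

theorem group_code : groupOK dataCode symCode = true := by decide +kernel

theorem group_cocode : groupOK dataCocode symCocode = true := by decide +kernel

theorem pc_closed : Data.closedOK pcRules 7 = true := by decide +kernel

theorem sylow_distinct : ((List.range 128).map fun k =>
    SchurMult.GolayEngine.key ((Data.nword 7 k).map fun i => gens23.getD i idCode)).Nodup := by
  decide +kernel

theorem mats_code : ((List.range symCode.length).all fun s => (List.range 11).all fun i =>
    act (symCode.getD s idCode) (basisCode.getD i 0) ==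
      xcomb basisCode (colMask (dataCode.mats.getD s []) i)) = true := by decide +kernel

theorem mats_cocode : ((List.range symCocode.length).all fun s => (List.range 11).all fun i =>
    let x := act (symCocode.getD s idCode) (basisCocode.getD i 0) ^^^
      xcomb basisCocode (colMask (dataCocode.mats.getD s []) i)
    isCode x || isCode (x ^^^ 1 <<< 23)) = true := by decide +kernel

theorem basis_code : ∀ i < 11, isCode (basisCode.getD i 0) = true ∧
    (basisCode.getD i 0).testBit 23 = false := by decide +kernel

theorem dual_code : ∀ i < 11, ∀ o < 11, coord (coordCode.getD o 0) (word (basisCode.getD i 0)) =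
    if i = o then 1 else 0 := by decide +kernel

theorem dual_cocode : ∀ i < 11, ∀ o < 11,
    coord (coordCocode.getD o 0) (word (basisCocode.getD i 0)) = if i = o then 1 else 0 := by
  decide +kernel

theorem coord_cocode_code : ∀ o < 11, coord (coordCocode.getD o 0) (word FULL) = 0 ∧
    coord (coordCocode.getD o 0) (word (1 <<< 23)) = 0 ∧
      ∀ t < 23, coord (coordCocode.getD o 0) (word (qrMask t)) = 0 := by decide +kernel

/-- The coordinates of a mask. -/
def coordMask (F : List ℕ) (m : ℕ) : ℕ :=
  (List.range 11).foldr (fun o acc =>
    (if coord (F.getD o 0) (word m) = 1 then 1 <<< o else 0) ^^^ acc) 0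

theorem span_code : ∀ t < 23, xcomb basisCode (coordMask coordCode (qrMask t)) =
    qrMask t ^^^ (if (qrMask t).testBit 23 then
      FULL ^^^ xcomb basisCode (coordMask coordCode FULL) else 0) := by decide +kernel

theorem span_cocode : ((List.range 24).all fun i =>
    let x := (1 <<< i) ^^^ xcomb basisCocode (coordMask coordCocode (1 <<< i))
    isCode x || isCode (x ^^^ 1 <<< 23)) = true := by decide +kernel

end Cfsg.Agent.Lib.TailCert.Mathieu
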