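import Cfsg.Agent.Lib.TailCert.MathieuChecks
import Cfsg.Agent.Lib.Hall.Gaschutz
import Cfsg.Prelude.Def_Spor_Mathieu

/-! # Extensions of `M23` by a module of dimension eleven -/

set_option autoImplicit false

namespace Cfsg.Agent.Lib.TailCert.Mathieu

open Cfsg Cfsg.Agent.Lib.Golay

theorem mem_M23_iff {σ : Equiv.Perm GolayPt} : σ ∈ Spor.M23 ↔ σ ∈ gM23 := by
  rw [gM23_eq]
  simp [Spor.M23, st1, Subgroup.mem_inf]

theorem card_M23 : Nat.card Spor.M23 = 10200960 := by
  rw [← gM23_card]
  exact congrArg (fun H : Subgroup (Equiv.Perm GolayPt) => Nat.card H) (Subgroup.ext fun σ => mem_M23_iff)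

/-- The element of `M23` given by a symbol. -/
noncomputable def elt (sym : List ℕ) (s : ℕ) : Spor.M23 :=
  if h : inStab [] (1 <<< 23) (sym.getD s idCode) = true then
    ⟨toPerm (sym.getD s idCode), mem_M23_iff.2 (inStab_spec h).1⟩
  else 1

/-- An extension of `M23` by the module of a certificate. -/
structure Setting (E : Type*) [Group E] (M : Spor.M23 → (ℕ → ZMod 2) → ℕ → ZMod 2) where
  /-- The projection. -/
  proj : E →* Spor.M23
  surj : Function.Surjective proj
  /-- The coordinates of the kernel. -/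
  iota : (ℕ → ZMod 2) → E
  add : ∀ a b, iota (a + b) = iota a * iota b
  inj : ∀ a b, iota a = iota b → ∀ i < 11, a i = b i
  congr : ∀ a b, (∀ i < 11, a i = b i) → iota a = iota b
  range : ∀ n, proj n = 1 ↔ ∃ v, iota v = n
  act : ∀ g v, g * iota v = iota (M (proj g) v) * g

namespace Setting

variable {E : Type*} [Group E] {M : Spor.M23 → (ℕ → ZMod 2) → ℕ → ZMod 2} (T : Setting E M)
  {D : Data} {sym : List ℕ}

theorem proj_iota (v : ℕ → ZMod 2) : T.proj (T.iota v) = 1 := (T.range _).2 ⟨v, rfl⟩

theorem iota_zero : T.iota 0 = 1 := by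
  have h := T.add 0 0
  rw [add_zero] at h
  exact left_eq_mul.1 h

/-- A lift of each symbol. -/
noncomputable def lift (sym : List ℕ) (s : ℕ) : E := if s < sym.length then (T.surj (elt sym s)).choose else 1

theorem proj_lift {s : ℕ} (hs : s < sym.length) : T.proj (T.lift sym s) = elt sym s := by
  rw [lift, if_pos hs]; exact (T.surj (elt sym s)).choose_spec

theorem mat_out {s : ℕ} (hs : ¬ s < D.mats.length) (v : ℕ → ZMod 2) :
    ∀ i < 11, D.mact s v i = v i := by
  intro i hi
  rw [Data.mact, Data.mat, if_neg hs, Data.getD_map_range _ hi, dot_single _ _ hi]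

/-- The facts about a certificate used for any extension. -/
structure Valid (M : Spor.M23 → (ℕ → ZMod 2) → ℕ → ZMod 2) (D : Data) (sym : List ℕ) :
    Prop where
  pre : D.rules.take 28 = pcRules
  gens : sym.take 7 = gens23
  group : groupOK D sym = true
  mats : ∀ s < sym.length, ∀ v, ∀ i < 11, M (elt sym s) v i = D.mact s v i

variable (V : Valid M D sym)
include V

theorem mats_length : D.mats.length = sym.length := by
  have h := V.group
  simp only [groupOK, Bool.and_eq_true, beq_iff_eq] at h
  exact h.1.2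

theorem elt_val {s : ℕ} (hs : s < sym.length) :
    (elt sym s : Equiv.Perm GolayPt) = toPerm (sym.getD s idCode) ∧
      valid (sym.getD s idCode) = true := by
  have h := V.group
  simp only [groupOK, Bool.and_eq_true, List.all_eq_true] at h
  have hm : inStab [] (1 <<< 23) (sym.getD s idCode) = true := by
    rw [List.getD_eq_getElem _ _ hs]; exact h.1.1 _ (List.getElem_mem hs)
  rw [elt, dif_pos hm]
  exact ⟨rfl, (inStab_spec hm).2⟩

theorem proj_ev {w : List ℕ} (hw : ∀ s ∈ w, s < sym.length) :
    (T.proj (Data.ev (T.lift sym) w) : Equiv.Perm GolayPt) =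
        ((w.map fun s => sym.getD s idCode).map toPerm).prod ∧
      ∀ p ∈ w.map fun s => sym.getD s idCode, valid p = true := by
  refine ⟨?_, fun p hp => ?_⟩
  · induction w with
    | nil => simp [Data.ev]
    | cons s w ih =>
      have ih' := ih fun t ht => hw t (List.mem_cons_of_mem _ ht)
      simp only [Data.ev, List.map_cons, List.prod_cons, map_mul, Subgroup.coe_mul] at ih' ⊢
      rw [ih', T.proj_lift (hw s (by simp)), (elt_val V (hw s (by simp))).1]
  · obtain ⟨s, hs, rfl⟩ := List.mem_map.1 hp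
    exact (elt_val V (hw s hs)).2

theorem exists_tail {k : ℕ} (hk : k < D.rules.length) :
    ∃ u, T.iota u = Data.ev (T.lift sym) (D.rules.getD k ([], [])).1 *
      (Data.ev (T.lift sym) (D.rules.getD k ([], [])).2)⁻¹ := by
  have h := V.group
  simp only [groupOK, Bool.and_eq_true, List.all_eq_true, decide_eq_true_eq] at h
  obtain ⟨hw, hsame⟩ := h.2 _ (List.getD_eq_getElem _ ([], []) hk ▸ List.getElem_mem hk)
  refine (T.range _).1 (Subtype.ext ?_)
  obtain ⟨a1, a2⟩ := T.proj_ev V (w := (D.rules.getD k ([], [])).1)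
    fun s hs => hw s (List.mem_append_left _ hs)
  obtain ⟨b1, b2⟩ := T.proj_ev V (w := (D.rules.getD k ([], [])).2)
    fun s hs => hw s (List.mem_append_right _ hs)
  rw [map_mul, map_inv, Subgroup.coe_mul, Subgroup.coe_inv, a1, b1,
    SchurMult.GolayEngine.same_spec a2 b2 hsame, mul_inv_cancel, Subgroup.coe_one]

theorem exists_frame : ∃ U, D.Frame T.iota (T.lift sym) U := by
  classical
  let u : ℕ → ℕ → ZMod 2 := fun k =>
    if h : k < D.rules.length then (T.exists_tail V h).choose else 0
  refine ⟨fun j => u (j / 11) (j % 11), T.add, T.inj, T.congr, fun s v => ?_, fun k hk => ?_⟩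
  · by_cases hs : s < sym.length
    · rw [T.act, T.proj_lift hs]
      exact congrArg (· * _) (T.congr _ _ (V.mats s hs v))
    · rw [lift, if_neg hs, one_mul, mul_one]
      exact T.congr _ _ fun i hi => (mat_out (by rwa [mats_length V]) v i hi).symm
  · have := (T.exists_tail V hk).choose_spec
    rw [T.congr (fun o => u ((11 * k + o) / 11) ((11 * k + o) % 11)) (u k) fun o ho => ?_]
    · rw [show u k = (T.exists_tail V hk).choose from dif_pos hk, this, inv_mul_cancel_right]
    · show u ((11 * k + o) / 11) ((11 * k + o) % 11) = u k o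
      rw [show (11 * k + o) / 11 = k by omega, show (11 * k + o) % 11 = o by omega]

theorem rule_pre {k : ℕ} (hk : k < 28) :
    D.rules.getD k ([], []) = pcRules.getD k ([], []) := by
  rw [← V.pre, List.getD_eq_getElem?_getD, List.getD_eq_getElem?_getD, List.getElem?_take, if_pos hk]

/-- Lifts satisfying the power-commutator relations up to a multiple of fixed tails. -/
theorem exists_normalized {eqs : List (List ℕ × List (ℕ × ℕ × Bool) × List (ℕ × ℕ × Bool))}
    {rows : List ℕ} {sel : ℕ} (hrows : pick (eqs.flatMap D.eqRows) sel = rows) {K : List (List ℕ)} {psi : ℕ}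
    {t0 : List ℕ} {comb : List (List ℕ)} (hsolve : D.solveOK rows K psi t0 comb 28 = true) :
    ∃ (Y : ℕ → E) (c : ZMod 2), (∀ a < 7, T.proj (Y a) = elt sym a) ∧ (psi = 0 → c = 0) ∧
      ∀ k < 28, Data.ev Y (pcRules.getD k ([], [])).1 =
        T.iota (fun o => c * if (t0.getD k 0).testBit o then 1 else 0) *
          Data.ev Y (pcRules.getD k ([], [])).2 := by
  obtain ⟨U, F⟩ := T.exists_frame V
  have hlen : 7 ≤ sym.length := by
    have h1 := congrArg List.length V.gens
    rw [List.length_take, show gens23.length = 7 from rfl] at h1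
    omega
  refine ⟨fun s => T.iota (lvec D.nv (K.getD s []) U) * T.lift sym s, dot D.nv psi U,
    fun a ha => ?_, fun h => by rw [h, dot_zero_mask], fun k hk => ?_⟩
  · rw [map_mul, T.proj_iota, one_mul, T.proj_lift (by omega)]
  · rw [← rule_pre V hk]
    refine F.solve (fun r hr => ?_) hsolve hk
    rw [← hrows] at hr
    obtain ⟨e, -, he⟩ := List.mem_flatMap.1 (mem_pick hr)
    exact F.eq_rows he

theorem card_sylow (g : ℕ → Spor.M23) (hg : ∀ a < 7, g a = elt sym a) :
    128 ≤ Nat.card (Subgroup.closure (g '' {i | i < 7})) := by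
  classical
  set P := Subgroup.closure (g '' {i | i < 7})
  have hlen : 7 ≤ sym.length := by
    have h1 := congrArg List.length V.gens
    rw [List.length_take, show gens23.length = 7 from rfl] at h1
    omega
  have hmem : ∀ k : Fin 128, Data.ev g (Data.nword 7 k) ∈ P := fun k => by
    refine Subgroup.list_prod_mem _ fun x hx => ?_
    obtain ⟨i, hi, rfl⟩ := List.mem_map.1 hx
    exact Subgroup.subset_closure ⟨i, List.mem_range.1 (List.mem_of_mem_filter hi), rfl⟩
  let F : Fin 128 → P := fun k => ⟨_, hmem k⟩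
  have hinj : Function.Injective F := by
    intro a b hab
    have hab' : Data.ev g (Data.nword 7 a) = Data.ev g (Data.nword 7 b) := congrArg Subtype.val hab
    have hp : ∀ k : ℕ, ((Data.ev g (Data.nword 7 k) : Spor.M23) : Equiv.Perm GolayPt) =
        (((Data.nword 7 k).map fun i => gens23.getD i idCode).map toPerm).prod ∧
        ∀ p ∈ (Data.nword 7 k).map fun i => gens23.getD i idCode, valid p = true := by
      intro k
      have he : ∀ i ∈ Data.nword 7 k, i < 7 := fun i hi => List.mem_range.1 (List.mem_of_mem_filter hi)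
      have hgd : ∀ i < 7, gens23.getD i idCode = sym.getD i idCode := fun i hi => by
        rw [← V.gens, List.getD_eq_getElem?_getD, List.getD_eq_getElem?_getD, List.getElem?_take,
          if_pos hi]
      refine ⟨?_, fun p hp => ?_⟩
      · rw [Data.ev, SubmonoidClass.coe_list_prod, List.map_map, List.map_map]
        refine congrArg List.prod (List.map_congr_left fun i hi => ?_)
        show (g i : Equiv.Perm GolayPt) = _
        rw [hg i (he i hi), (elt_val V (by have := he i hi; omega)).1]
        exact congrArg toPerm (hgd i (he i hi)).symm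
      · obtain ⟨i, hi, rfl⟩ := List.mem_map.1 hp
        rw [hgd i (he i hi)]
        exact (elt_val V (by have := he i hi; omega)).2
    have hkey := SchurMult.GolayEngine.key_congr (hp a).2 (hp b).2
      (by rw [← (hp a).1, ← (hp b).1, hab'])
    exact Fin.ext (List.inj_on_of_nodup_map sylow_distinct (List.mem_range.2 a.2)
      (List.mem_range.2 b.2) hkey)
  have := Nat.card_le_card_of_injective F hinj
  rwa [Nat.card_eq_fintype_card, Fintype.card_fin] at this

/-- Exact lifts of the Sylow generators split the extension. -/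
theorem split [Finite E] (Y : ℕ → E) (hY : ∀ a < 7, T.proj (Y a) = elt sym a)
    (hrel : ∀ k < 28, Data.ev Y (pcRules.getD k ([], [])).1 =
      Data.ev Y (pcRules.getD k ([], [])).2) :
    ∃ L : Subgroup E, L ⊓ T.proj.ker = ⊥ ∧ L ⊔ T.proj.ker = ⊤ := by
  classical
  have hR : ∀ r ∈ pcRules, Data.ev Y r.1 = Data.ev Y r.2 := by
    intro r hr
    obtain ⟨k, hk, rfl⟩ := List.getElem_of_mem hr
    have := hrel k (by simpa [show pcRules.length = 28 from rfl] using hk)
    rwa [List.getD_eq_getElem _ _ hk] at this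
  set H := Subgroup.closure (Y '' {i | i < 7}) with hH
  set P := Subgroup.closure ((fun a => T.proj (Y a)) '' {i | i < 7}) with hP
  have hmap : H.map T.proj = P := by rw [hH, hP, MonoidHom.map_closure, Set.image_image]
  have h128 : 128 ≤ Nat.card P := card_sylow V _ hY
  have hHle : Nat.card H ≤ 128 := Data.card_closure_le hR pc_closed
  have hPle : Nat.card P ≤ Nat.card H := by
    rw [← hmap]
    exact Nat.le_of_dvd Nat.card_pos (Subgroup.card_map_dvd _ _)
  have hPc : Nat.card P = 128 := le_antisymm (hPle.trans hHle) h128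
  have hHc : Nat.card H = 128 := le_antisymm hHle (h128.trans hPle)
  set W := P.comap T.proj with hW
  set K := T.proj.ker with hK
  have : IsMulCommutative K := ⟨⟨fun a b => by
    obtain ⟨u, hu⟩ := (T.range _).1 a.2
    obtain ⟨v, hv⟩ := (T.range _).1 b.2
    exact Subtype.ext (by
      show (a : E) * b = b * a
      rw [← hu, ← hv, ← T.add, ← T.add, add_comm])⟩⟩
  have hKW : K ≤ W := fun x hx => by
    rw [hW, Subgroup.mem_comap, MonoidHom.mem_ker.1 hx]; exact one_mem _
  have hHW : H ≤ W := Subgroup.map_le_iff_le_comap.1 hmap.le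
  have hodd : Nat.Coprime (Nat.card K) W.index := by
    rw [hW, Subgroup.index_comap_of_surjective _ T.surj]
    have h := P.card_mul_index
    rw [hPc, card_M23] at h
    rw [show P.index = 79695 by omega]
    have hp : IsPGroup 2 K := fun a => ⟨1, Subtype.ext (by
      obtain ⟨u, hu⟩ := (T.range _).1 a.2
      rw [Subgroup.coe_pow, pow_one, pow_two, ← hu, ← T.add,
        show u + u = 0 from funext fun i => CharTwo.add_self_eq_zero _, T.iota_zero]
      rfl)⟩
    have : Fact (Nat.Prime 2) := ⟨Nat.prime_two⟩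
    obtain ⟨n, hn⟩ := IsPGroup.iff_card.1 hp
    rw [hn]
    exact Nat.Coprime.pow_left n (by norm_num)
  have hdisj : H ⊓ K = ⊥ := by
    have hinj : Function.Injective (T.proj.subgroupMap H) := by
      refine (Nat.bijective_iff_surjective_and_card _).2
        ⟨MonoidHom.subgroupMap_surjective _ _, ?_⟩ |>.1
      rw [hmap, hPc, hHc]
    rw [eq_bot_iff]
    rintro x ⟨hxH, hxK⟩
    have hx1 : T.proj x = 1 := hxK
    have := @hinj ⟨x, hxH⟩ 1 (Subtype.ext (by simpa using hx1))
    exact congrArg Subtype.val this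
  have hcompl : Subgroup.IsComplement' (K.subgroupOf W) (H.subgroupOf W) := by
    refine Subgroup.isComplement'_of_card_mul_and_disjoint ?_ ?_
    · rw [Nat.card_congr (Subgroup.subgroupOfEquivOfLe hKW).toEquiv,
        Nat.card_congr (Subgroup.subgroupOfEquivOfLe hHW).toEquiv, hHc]
      have h1 := W.card_mul_index
      rw [hW, Subgroup.index_comap_of_surjective _ T.surj, ← hW] at h1
      have h2 := Subgroup.card_eq_card_quotient_mul_card_subgroup K
      rw [Nat.card_congr (QuotientGroup.quotientKerEquivOfSurjective T.proj T.surj).toEquiv,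
        card_M23] at h2
      have h3 := P.card_mul_index
      rw [hPc, card_M23] at h3
      rw [show P.index = 79695 by omega] at h1
      omega
    · rw [disjoint_iff, eq_bot_iff]
      rintro x ⟨hxK, hxH⟩
      exact Subtype.ext (Subgroup.mem_bot.1 (hdisj ▸ ⟨hxH, hxK⟩ : (x : E) ∈ (⊥ : Subgroup E)))
  obtain ⟨L, hL⟩ := Hall.exists_complement_of_relative K hKW hodd hcompl
  exact ⟨L, by rw [inf_comm]; exact hL.disjoint.eq_bot, by rw [sup_comm]; exact hL.sup_eq_top⟩

/-- Two extensions with the same tails on the Sylow generators are isomorphic. -/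
theorem iso {E' : Type*} [Group E'] [Finite E] [Finite E'] (T' : Setting E' M)
    {t : ℕ → ℕ → ZMod 2} {Y : ℕ → E} (hY : ∀ a < 7, T.proj (Y a) = elt sym a)
    (hrel : ∀ k < 28, Data.ev Y (pcRules.getD k ([], [])).1 =
      T.iota (t k) * Data.ev Y (pcRules.getD k ([], [])).2)
    {Y' : ℕ → E'} (hY' : ∀ a < 7, T'.proj (Y' a) = elt sym a)
    (hrel' : ∀ k < 28, Data.ev Y' (pcRules.getD k ([], [])).1 =
      T'.iota (t k) * Data.ev Y' (pcRules.getD k ([], [])).2) :
    Nonempty (E ≃* E') := by
  classical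
  let P : Subgroup (E × E') := MonoidHom.eqLocus
    (T.proj.comp (MonoidHom.fst E E')) (T'.proj.comp (MonoidHom.snd E E'))
  have hP : ∀ {e : E × E'}, e ∈ P ↔ T.proj e.1 = T'.proj e.2 := Iff.rfl
  have hpair : ∀ v w, (T.iota v, T'.iota w) ∈ P := fun v w => by
    rw [hP, T.proj_iota, T'.proj_iota]
  let δ : Multiplicative (ℕ → ZMod 2) →* P :=
    MonoidHom.mk' (fun v => ⟨(T.iota v.toAdd, T'.iota v.toAdd), hpair _ _⟩) fun a b =>
      Subtype.ext (Prod.ext (T.add _ _) (T'.add _ _))
  have hconj : ∀ (g : P) v, g * δ v = δ (Multiplicative.ofAdd (M (T.proj g.1.1) v.toAdd)) * g := by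
    intro g v
    have hg : T.proj g.1.1 = T'.proj g.1.2 := g.2
    refine Subtype.ext (Prod.ext (T.act _ _) ?_)
    show g.1.2 * T'.iota v.toAdd = T'.iota (M (T.proj g.1.1) v.toAdd) * g.1.2
    rw [hg]
    exact T'.act _ _
  have : δ.range.Normal := ⟨by
    rintro _ ⟨v, rfl⟩ g
    exact ⟨_, (mul_inv_eq_iff_eq_mul.2 (hconj g v)).symm⟩⟩
  let π : P ⧸ δ.range →* Spor.M23 := QuotientGroup.lift δ.range
    ((T.proj.comp (MonoidHom.fst E E')).comp P.subtype) (by
      rintro _ ⟨v, rfl⟩; exact T.proj_iota _)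
  let j : (ℕ → ZMod 2) → P := fun v => ⟨(T.iota v, 1), by
    simpa [T'.iota_zero] using hpair v 0⟩
  have hjadd : ∀ a b, j (a + b) = j a * j b := fun a b =>
    Subtype.ext (Prod.ext (T.add a b) (one_mul 1).symm)
  have hjinj : ∀ v, j v ∈ δ.range → ∀ i < 11, v i = 0 := by
    rintro v ⟨z, hz⟩ i hi
    have h1 : T.iota z.toAdd = T.iota v := congrArg (fun x : P => x.1.1) hz
    have h2 : T'.iota z.toAdd = T'.iota 0 := by
      rw [T'.iota_zero]; exact congrArg (fun x : P => x.1.2) hz
    rw [← T.inj _ _ h1 i hi]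
    exact T'.inj _ _ h2 i hi
  let T'' : Setting (P ⧸ δ.range) M :=
    { proj := π
      surj := fun σ => by
        obtain ⟨e, he⟩ := T.surj σ
        obtain ⟨e', he'⟩ := T'.surj σ
        exact ⟨QuotientGroup.mk ⟨(e, e'), hP.2 (he.trans he'.symm)⟩, he⟩
      iota := fun v => QuotientGroup.mk (j v)
      add := fun a b => by rw [hjadd, QuotientGroup.mk_mul]
      inj := fun a b h i hi => by
        have hb : j b = (j b)⁻¹ := by
          rw [eq_inv_iff_mul_eq_one, ← hjadd, show b + b = 0 from funext fun i =>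
            CharTwo.add_self_eq_zero _]
          exact Subtype.ext (Prod.ext T.iota_zero rfl)
        have hm : j (b + a) ∈ δ.range := by
          rw [hjadd, hb]; exact QuotientGroup.eq.1 h.symm
        have hz := hjinj _ hm i hi
        have hsum : ∀ x y : ZMod 2, y + x = 0 → x = y := by decide
        exact hsum _ _ hz
      congr := fun a b h => congrArg QuotientGroup.mk (Subtype.ext (Prod.ext (T.congr a b h) rfl))
      range := fun n => by
        constructor
        · intro hn
          obtain ⟨⟨⟨a, b⟩, hab⟩, rfl⟩ := QuotientGroup.mk_surjective n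
          have ha : T.proj a = 1 := hn
          have hb : T'.proj b = 1 := (hP.1 hab).symm.trans ha
          obtain ⟨u, rfl⟩ := (T.range a).1 ha
          obtain ⟨w, rfl⟩ := (T'.range b).1 hb
          refine ⟨u + w, QuotientGroup.eq.2 ⟨Multiplicative.ofAdd w, ?_⟩⟩
          have hself : (T.iota (u + w))⁻¹ = T.iota (u + w) := by
            rw [inv_eq_iff_mul_eq_one, ← T.add, show u + w + (u + w) = 0 from funext fun i => by
              simp only [Pi.add_apply, Pi.zero_apply]; exact CharTwo.add_self_eq_zero _, T.iota_zero]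
          refine Subtype.ext (Prod.ext ?_ ?_)
          · show T.iota w = (T.iota (u + w))⁻¹ * T.iota u
            rw [hself, ← T.add, show u + w + u = w from funext fun i => by
              simp only [Pi.add_apply]; rw [add_comm (u i), add_assoc, CharTwo.add_self_eq_zero,
                add_zero]]
          · show T'.iota w = (1 : E')⁻¹ * T'.iota w
            rw [inv_one, one_mul]
        · rintro ⟨v, rfl⟩
          exact T.proj_iota v
      act := fun g v => by
        obtain ⟨g, rfl⟩ := QuotientGroup.mk_surjective g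
        rw [← QuotientGroup.mk_mul, ← QuotientGroup.mk_mul]
        refine congrArg QuotientGroup.mk (Subtype.ext (Prod.ext (T.act _ _) ?_))
        show g.1.2 * 1 = 1 * g.1.2
        rw [mul_one, one_mul] }
  let Z : ℕ → P ⧸ δ.range := fun a =>
    if h : T.proj (Y a) = T'.proj (Y' a) then QuotientGroup.mk ⟨(Y a, Y' a), hP.2 h⟩ else 1
  have hZ : ∀ a < 7, ∃ h : T.proj (Y a) = T'.proj (Y' a),
      Z a = QuotientGroup.mk ⟨(Y a, Y' a), hP.2 h⟩ := fun a ha =>
    ⟨(hY a ha).trans (hY' a ha).symm, dif_pos ((hY a ha).trans (hY' a ha).symm)⟩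
  have hwords : ∀ w : List ℕ, (∀ a ∈ w, a < 7) →
      ∃ h : T.proj (Data.ev Y w) = T'.proj (Data.ev Y' w),
      Data.ev Z w = QuotientGroup.mk ⟨(Data.ev Y w, Data.ev Y' w), hP.2 h⟩ := by
    intro w
    induction w with
    | nil => intro _; exact ⟨by simp [Data.ev], rfl⟩
    | cons a w ih =>
      intro hw
      obtain ⟨h1, e1⟩ := hZ a (hw a (by simp))
      obtain ⟨h2, e2⟩ := ih fun b hb => hw b (List.mem_cons_of_mem _ hb)
      refine ⟨by
        simp only [Data.ev, List.map_cons, List.prod_cons, map_mul] at h2 ⊢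
        rw [h1, h2], ?_⟩
      simp only [Data.ev, List.map_cons, List.prod_cons] at e2 ⊢
      rw [e1, e2, ← QuotientGroup.mk_mul]
      rfl
  have hshape : ∀ k < 28, (∀ a ∈ (pcRules.getD k ([], [])).1, a < 7) ∧
      ∀ a ∈ (pcRules.getD k ([], [])).2, a < 7 := by decide +kernel
  obtain ⟨L, hL1, hL2⟩ := split T'' V Z (fun a ha => by
      obtain ⟨h, he⟩ := hZ a ha
      rw [he]; exact hY a ha) (fun k hk => by
      obtain ⟨h1, e1⟩ := hwords _ (hshape k hk).1
      obtain ⟨h2, e2⟩ := hwords _ (hshape k hk).2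
      rw [e1, e2]
      refine (QuotientGroup.eq.2 ?_).symm
      have hn := (inferInstance : δ.range.Normal).conj_mem _
        ⟨Multiplicative.ofAdd (t k), rfl⟩
        (⟨(Data.ev Y (pcRules.getD k ([], [])).2, Data.ev Y' (pcRules.getD k ([], [])).2),
          hP.2 h2⟩ : P)⁻¹
      convert hn using 1
      refine Subtype.ext (Prod.ext ?_ ?_)
      · show (Data.ev Y _)⁻¹ * Data.ev Y _ = (Data.ev Y _)⁻¹ * T.iota (t k) * ((Data.ev Y _)⁻¹)⁻¹
        rw [hrel k hk, inv_inv, mul_assoc]
      · show (Data.ev Y' _)⁻¹ * Data.ev Y' _ =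
          (Data.ev Y' _)⁻¹ * T'.iota (t k) * ((Data.ev Y' _)⁻¹)⁻¹
        rw [hrel' k hk, inv_inv, mul_assoc])
  -- the graph of the isomorphism
  set L' : Subgroup P := L.comap (QuotientGroup.mk' δ.range)
  have hdL : ∀ v, δ v ∈ L' := fun v => by
    show QuotientGroup.mk' δ.range (δ v) ∈ L
    rw [QuotientGroup.mk'_apply, (QuotientGroup.eq_one_iff (δ v)).2 (MonoidHom.mem_range.2 ⟨v, rfl⟩)]
    exact one_mem L
  have hker : ∀ x : P, x ∈ L' → T.proj x.1.1 = 1 → x ∈ δ.range := by
    intro x hx hp
    have hm : (QuotientGroup.mk x : P ⧸ δ.range) ∈ L ⊓ T''.proj.ker :=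
      Subgroup.mem_inf.2 ⟨hx, MonoidHom.mem_ker.2 hp⟩
    rw [hL1, Subgroup.mem_bot] at hm
    exact (QuotientGroup.eq_one_iff x).1 hm
  have hall : ∀ x : P, ∃ y ∈ L', ∃ v, x = y * j v := by
    intro x
    have : T''.proj.ker.Normal := MonoidHom.normal_ker _
    obtain ⟨l, hl, n, hn, he⟩ := Subgroup.mem_sup_of_normal_right.1
      (show (QuotientGroup.mk x : P ⧸ δ.range) ∈ L ⊔ T''.proj.ker by rw [hL2]; trivial)
    obtain ⟨v, rfl⟩ := (T''.range n).1 hn
    refine ⟨x * (j v)⁻¹, ?_, v, (inv_mul_cancel_right x (j v)).symm⟩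
    show QuotientGroup.mk' δ.range (x * (j v)⁻¹) ∈ L
    rw [QuotientGroup.mk'_apply, QuotientGroup.mk_mul, QuotientGroup.mk_inv, ← he]
    show l * T''.iota v * (T''.iota v)⁻¹ ∈ L
    rwa [mul_inv_cancel_right]
  let p1 : L' →* E := ((MonoidHom.fst E E').comp P.subtype).comp L'.subtype
  let p2 : L' →* E' := ((MonoidHom.snd E E').comp P.subtype).comp L'.subtype
  have b1 : Function.Bijective p1 := by
    refine ⟨(injective_iff_map_eq_one p1).2 fun x hx => ?_, fun e => ?_⟩
    · obtain ⟨v, hv⟩ := hker x.1 x.2 (by rw [show x.1.1.1 = p1 x from rfl, hx, map_one])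
      have h0 : T.iota v.toAdd = 1 := (congrArg (fun y : P => y.1.1) hv).trans hx
      have h0' : T'.iota v.toAdd = 1 := by
        rw [← T'.iota_zero]
        exact T'.congr _ _ (T.inj _ _ (h0.trans T.iota_zero.symm))
      refine Subtype.ext ?_
      rw [← hv]
      exact Subtype.ext (Prod.ext h0 h0')
    · obtain ⟨e', he'⟩ := T'.surj (T.proj e)
      obtain ⟨y, hy, v, hyv⟩ := hall ⟨(e, e'), hP.2 he'.symm⟩
      refine ⟨⟨y * δ (Multiplicative.ofAdd v), mul_mem hy (hdL _)⟩, ?_⟩
      exact (congrArg (fun x : P => x.1.1) hyv).symm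
  have b2 : Function.Bijective p2 := by
    refine ⟨(injective_iff_map_eq_one p2).2 fun x hx => ?_, fun e' => ?_⟩
    · obtain ⟨v, hv⟩ := hker x.1 x.2 (by
        rw [hP.1 x.1.2, show x.1.1.2 = p2 x from rfl, hx, map_one])
      have h0' : T'.iota v.toAdd = 1 := (congrArg (fun y : P => y.1.2) hv).trans hx
      have h0 : T.iota v.toAdd = 1 := by
        rw [← T.iota_zero]
        exact T.congr _ _ (T'.inj _ _ (h0'.trans T'.iota_zero.symm))
      refine Subtype.ext ?_
      rw [← hv]
      exact Subtype.ext (Prod.ext h0 h0')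
    · obtain ⟨e, he⟩ := T.surj (T'.proj e')
      obtain ⟨y, hy, v, hyv⟩ := hall ⟨(e, e'), hP.2 he⟩
      refine ⟨⟨y, hy⟩, ?_⟩
      have := congrArg (fun x : P => x.1.2) hyv
      simpa [j, p2] using this.symm
  exact ⟨(MulEquiv.ofBijective p1 b1).symm.trans (MulEquiv.ofBijective p2 b2)⟩

end Setting

end Cfsg.Agent.Lib.TailCert.Mathieu
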