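import Cfsg.Agent.Lib.TailCert.MathieuData

/-! # The linear algebra of the cocode certificate for `M23` -/

set_option autoImplicit false
set_option maxRecDepth 100000

namespace Cfsg.Agent.Lib.TailCert.Mathieu

theorem rows_cocode : pick (eqsCocode.flatMap dataCocode.eqRows) rowSelCocode = rowsCocode := by decide +kernel

theorem solve_cocode :
    dataCocode.solveOK rowsCocode shiftCocode psiCocode tailCocode combCocode 28 = true := by
  decide +kernel

end Cfsg.Agent.Lib.TailCert.Mathieu
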