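import Cfsg.Agent.Lib.TailCert.MathieuData

/-! # The linear algebra of the code certificate for `M23` -/

set_option autoImplicit false
set_option maxRecDepth 100000

namespace Cfsg.Agent.Lib.TailCert.Mathieu

theorem rows_code : pick (eqsCode.flatMap dataCode.eqRows) rowSelCode = rowsCode := by decide +kernel

theorem solve_code : dataCode.solveOK rowsCode shiftCode 0 [] combCode 28 = true := by
  decide +kernel

end Cfsg.Agent.Lib.TailCert.Mathieu
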