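import Cfsg.Agent.Lib.TailCert.MathieuExt
import Cfsg.Agent.Lib.TailCert.MathieuSolveCode
import Cfsg.Agent.Lib.TailCert.MathieuSolveCocode

/-! # The code and cocode modules of `M23` as coordinate modules -/

set_option autoImplicit false

namespace Cfsg.Agent.Lib.TailCert.Mathieu

open Cfsg Cfsg.Agent.Lib.Golay

/-- The word with given coordinates on a basis. -/
def wordOf (B : List ℕ) (v : ℕ → ZMod 2) : GolayPt → ZMod 2 :=
  ∑ i ∈ Finset.range 11, v i • word (B.getD i 0)

/-- The parity form as an additive map. -/
def coordHom (f : ℕ) : (GolayPt → ZMod 2) →+ ZMod 2 where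
  toFun := coord f
  map_zero' := by simp [coord]
  map_add' a b := by
    simp only [coord, ← Finset.sum_add_distrib]
    exact Finset.sum_congr rfl fun x _ => by split_ifs <;> simp

/-- The action in coordinates. -/
def actVec (B F : List ℕ) (σ : Spor.M23) (v : ℕ → ZMod 2) (o : ℕ) : ZMod 2 :=
  coord (F.getD o 0) (wordOf B v ∘ ⇑((σ : Equiv.Perm GolayPt)⁻¹))

theorem wordOf_add (B : List ℕ) (a b : ℕ → ZMod 2) :
    wordOf B (a + b) = wordOf B a + wordOf B b := by
  simp [wordOf, add_smul, Finset.sum_add_distrib]

theorem wordOf_congr (B : List ℕ) {a b : ℕ → ZMod 2} (h : ∀ i < 11, a i = b i) :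
    wordOf B a = wordOf B b :=
  Finset.sum_congr rfl fun i hi => by rw [h i (Finset.mem_range.1 hi)]

theorem word_comp_inv {p : ℕ} (hp : valid p = true) (m : ℕ) :
    word m ∘ ⇑((toPerm p)⁻¹) = word (act p m) := by
  funext x
  obtain ⟨y, rfl⟩ := (toPerm p).surjective x
  simp only [Function.comp_apply, Equiv.Perm.inv_def, Equiv.symm_apply_apply, word]
  have h : m.testBit (ix y) = (act p m).testBit (ix (toPerm p y)) := by
    rw [Bool.eq_iff_iff, toPerm_apply hp, ix_pt (img_lt hp (ix_lt y)), testBit_act]
    constructor
    · exact fun h => ⟨ix y, ix_lt y, h, rfl⟩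
    · rintro ⟨i, hi, hm, he⟩
      have : toPerm p (pt i) = toPerm p y := by
        rw [toPerm_pt hp hi, toPerm_apply hp, he]
      rw [← (toPerm p).injective this, ix_pt hi]
      exact hm
  rw [h]

theorem word_xcomb : ∀ (B : List ℕ) (m : ℕ), word (xcomb B m) =
    ∑ o ∈ Finset.range B.length, if m.testBit o then word (B.getD o 0) else 0
  | [], m => by simp [xcomb, word_zero]
  | b :: B, m => by
    rw [xcomb, word_xor, word_xcomb B, List.length_cons, Finset.sum_range_succ', add_comm]
    congr 1
    · refine Finset.sum_congr rfl fun i _ => ?_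
      rw [Nat.testBit_shiftRight, Nat.add_comm 1 i, List.getD_cons_succ]
    · cases m.testBit 0 <;> simp [word_zero]

theorem colMask_testBit : ∀ M : List ℕ, ∀ i o : ℕ, o < 11 →
    (colMask M i).testBit o = (M.getD o 0).testBit i := by
  intro M i o ho
  have key : ∀ L : List ℕ, L.Nodup →
      (L.foldr (fun o acc => (if (M.getD o 0).testBit i then 1 <<< o else 0) ^^^ acc) 0).testBit o =
        (decide (o ∈ L) && (M.getD o 0).testBit i) := by
    intro L
    induction L with
    | nil => simp
    | cons a L ih =>
      intro hnd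
      rw [List.nodup_cons] at hnd
      rw [List.foldr_cons, Nat.testBit_xor, ih hnd.2]
      by_cases hao : a = o
      · subst hao
        cases hb : (M.getD a 0).testBit i <;> simp [hnd.1, Nat.one_shiftLeft]
      · cases hb : (M.getD a 0).testBit i <;>
          simp [Nat.one_shiftLeft, hao, Ne.symm hao]
  rw [colMask, key _ List.nodup_range]
  simp [ho]

/-- The matrices describe the action, up to a kernel. -/
theorem mact_spec {D : Data} {sym B : List ℕ} (hB : B.length = 11)
    (hM : D.mats.length = sym.length) {s : ℕ} (hs : s < sym.length)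
    (hv : valid (sym.getD s idCode) = true) (K : AddSubgroup (GolayPt → ZMod 2))
    (h : ∀ i < 11, word (act (sym.getD s idCode) (B.getD i 0)) -
      word (xcomb B (colMask (D.mats.getD s []) i)) ∈ K) (v : ℕ → ZMod 2) :
    wordOf B v ∘ ⇑((toPerm (sym.getD s idCode))⁻¹) - wordOf B (D.mact s v) ∈ K := by
  set p := sym.getD s idCode
  have h1 : wordOf B v ∘ ⇑((toPerm p)⁻¹) =
      ∑ i ∈ Finset.range 11, v i • word (act p (B.getD i 0)) := by
    funext x
    simp only [wordOf, Function.comp_apply, Finset.sum_apply, Pi.smul_apply]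
    refine Finset.sum_congr rfl fun i _ => ?_
    rw [← word_comp_inv hv, Function.comp_apply]
  have h2 : wordOf B (D.mact s v) =
      ∑ i ∈ Finset.range 11, v i • word (xcomb B (colMask (D.mats.getD s []) i)) := by
    simp only [wordOf, Data.mact, Data.mat, if_pos (hM.symm ▸ hs : s < D.mats.length), dot,
      Finset.sum_smul, word_xcomb, hB, Finset.smul_sum]
    rw [Finset.sum_comm]
    refine Finset.sum_congr rfl fun i _ => Finset.sum_congr rfl fun o ho => ?_
    rw [colMask_testBit _ _ _ (Finset.mem_range.1 ho)]
    split_ifs <;> simp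
  rw [h1, h2, ← Finset.sum_sub_distrib]
  refine K.sum_mem fun i hi => ?_
  rw [← smul_sub]
  rcases (show ∀ z : ZMod 2, z = 0 ∨ z = 1 by decide) (v i) with e | e <;> rw [e]
  · rw [zero_smul]; exact K.zero_mem
  · rw [one_smul]; exact h i (Finset.mem_range.1 hi)

theorem coord_wordOf {B F : List ℕ}
    (h : ∀ i < 11, ∀ o < 11, coord (F.getD o 0) (word (B.getD i 0)) = if i = o then 1 else 0)
    (v : ℕ → ZMod 2) {o : ℕ} (ho : o < 11) : coord (F.getD o 0) (wordOf B v) = v o := by
  show coordHom (F.getD o 0) (∑ i ∈ Finset.range 11, v i • word (B.getD i 0)) = v o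
  rw [map_sum, Finset.sum_eq_single o]
  · rcases (show ∀ z : ZMod 2, z = 0 ∨ z = 1 by decide) (v o) with e | e <;> rw [e]
    · simp
    · rw [one_smul]; exact (h o ho o ho).trans (if_pos rfl)
  · intro i hi hio
    rcases (show ∀ z : ZMod 2, z = 0 ∨ z = 1 by decide) (v i) with e | e <;> rw [e]
    · simp
    · rw [one_smul]; exact (h i (Finset.mem_range.1 hi) o ho).trans (if_neg hio)
  · intro h'; exact absurd (Finset.mem_range.2 ho) h'

/-- The projection of an extension onto `M23`. -/
noncomputable def quotProj {E : Type*} [Group E] (N : Subgroup E) [N.Normal]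
    (φ : E ⧸ N ≃* ↥Spor.M23) : E →* ↥Spor.M23 :=
  φ.toMonoidHom.comp (QuotientGroup.mk' N)

theorem quotProj_eq_one {E : Type*} [Group E] {N : Subgroup E} [N.Normal]
    {φ : E ⧸ N ≃* ↥Spor.M23} {g : E} : quotProj N φ g = 1 ↔ g ∈ N := by
  show φ (QuotientGroup.mk g) = 1 ↔ g ∈ N
  rw [φ.map_eq_one_iff, QuotientGroup.eq_one_iff]

theorem ker_quotProj {E : Type*} [Group E] (N : Subgroup E) [N.Normal]
    (φ : E ⧸ N ≃* ↥Spor.M23) : (quotProj N φ).ker = N := by
  ext g; rw [MonoidHom.mem_ker, quotProj_eq_one]

theorem quotProj_surjective {E : Type*} [Group E] (N : Subgroup E) [N.Normal]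
    (φ : E ⧸ N ≃* ↥Spor.M23) : Function.Surjective (quotProj N φ) :=
  φ.surjective.comp (QuotientGroup.mk'_surjective N)

theorem isCode_act {p m : ℕ} (hp : inM24 p = true) (hm : isCode m = true) :
    isCode (act p m) = true := by
  rw [← toSet_mem_codeSets (act_lt (valid_of_inM24 hp) m), ← smul_toSet (valid_of_inM24 hp)]
  exact mem_codeSets_smul (toPerm_mem_M24 hp) ((toSet_mem_codeSets (lt_of_isCode hm)).2 hm)

/-! ### The code module -/

/-- The difference of a word and the word of its coordinates. -/
def residue (B F : List ℕ) : (GolayPt → ZMod 2) →+ (GolayPt → ZMod 2) where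
  toFun w := w - wordOf B fun o => coord (F.getD o 0) w
  map_zero' := by
    have : (fun o => coord (F.getD o 0) (0 : GolayPt → ZMod 2)) = 0 :=
      funext fun o => (coordHom _).map_zero
    rw [this]
    simp [wordOf]
  map_add' a b := by
    have : (fun o => coord (F.getD o 0) (a + b)) =
        (fun o => coord (F.getD o 0) a) + fun o => coord (F.getD o 0) b :=
      funext fun o => (coordHom _).map_add a b
    rw [this, wordOf_add]
    abel

theorem coordMask_testBit (F : List ℕ) (m o : ℕ) (ho : o < 11) :
    (coordMask F m).testBit o = decide (coord (F.getD o 0) (word m) = 1) := by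
  have key : ∀ L : List ℕ, L.Nodup → (L.foldr (fun o acc =>
      (if coord (F.getD o 0) (word m) = 1 then 1 <<< o else 0) ^^^ acc) 0).testBit o =
        (decide (o ∈ L) && decide (coord (F.getD o 0) (word m) = 1)) := by
    intro L
    induction L with
    | nil => simp
    | cons a L ih =>
      intro hnd
      rw [List.nodup_cons] at hnd
      rw [List.foldr_cons, Nat.testBit_xor, ih hnd.2]
      by_cases hao : a = o
      · subst hao
        by_cases hb : coord (F.getD a 0) (word m) = 1 <;>
          simp [hb, hnd.1, Nat.one_shiftLeft, -List.getD_eq_getElem?_getD]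
      · by_cases hb : coord (F.getD a 0) (word m) = 1 <;>
          simp [hb, Nat.one_shiftLeft, hao, Ne.symm hao, -List.getD_eq_getElem?_getD]
  rw [coordMask, key _ List.nodup_range]
  simp [ho]

theorem wordOf_coordMask {B : List ℕ} (hB : B.length = 11) (F : List ℕ) (m : ℕ) :
    wordOf B (fun o => coord (F.getD o 0) (word m)) = word (xcomb B (coordMask F m)) := by
  rw [word_xcomb, hB, wordOf]
  refine Finset.sum_congr rfl fun o ho => ?_
  rw [coordMask_testBit _ _ _ (Finset.mem_range.1 ho)]
  rcases (show ∀ z : ZMod 2, z = 0 ∨ z = 1 by decide) (coord (F.getD o 0) (word m)) with e | e <;>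
    simp [e, -List.getD_eq_getElem?_getD]

theorem residue_word {B : List ℕ} (hB : B.length = 11) (F : List ℕ) (m : ℕ) :
    residue B F (word m) = word (m ^^^ xcomb B (coordMask F m)) := by
  show word m - wordOf B _ = _
  rw [wordOf_coordMask hB, word_xor, sub_eq_add_neg, ZModModule.neg_eq_self]

theorem word_bit23 (m : ℕ) : word m none = if m.testBit 23 then 1 else 0 := rfl

/-- A code word fixed to zero at the extra point is the word of its coordinates. -/
theorem code_span {w : GolayPt → ZMod 2} (hw : w ∈ golayCode) (h0 : w none = 0) :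
    wordOf basisCode (fun o => coord (coordCode.getD o 0) w) = w := by
  have hB : basisCode.length = 11 := rfl
  set R0 := residue basisCode coordCode (word FULL) with hR0
  have hgen : ∀ t < 24, residue basisCode coordCode (word (if t = 23 then FULL else qrMask t)) =
      (word (if t = 23 then FULL else qrMask t)) none • R0 := by
    intro t ht
    split_ifs with h
    · rw [word_bit23, if_pos (by decide), one_smul]
    · rw [residue_word hB, span_code t (by omega), word_bit23]
      split_ifs
      · rw [one_smul, hR0, residue_word hB, ← Nat.xor_assoc, Nat.xor_self, Nat.zero_xor]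
      · rw [zero_smul, Nat.xor_zero, Nat.xor_self, word_zero]
  have hall : residue basisCode coordCode w = w none • R0 := by
    refine Submodule.span_induction (p := fun w _ => residue basisCode coordCode w = w none • R0)
      ?_ ?_ ?_ ?_ hw
    · rintro _ (⟨t, rfl⟩ | rfl)
      · have h := hgen t.val (lt_trans (ZMod.val_lt t) (by norm_num))
        rwa [if_neg (ZMod.val_lt t).ne, ← qrWord_eq] at h
      · have h := hgen 23 (by norm_num)
        rw [if_pos rfl] at h
        have hF : word FULL = (1 : GolayPt → ZMod 2) := by decide +kernel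
        rwa [hF] at h
    · simp
    · intro a b _ _ ha hb
      rw [map_add, ha, hb, Pi.add_apply, add_smul]
    · intro c a _ ha
      rcases (show ∀ z : ZMod 2, z = 0 ∨ z = 1 by decide) c with rfl | rfl <;> simp [ha]
  rw [h0, zero_smul] at hall
  exact (sub_eq_zero.1 hall).symm

theorem code_wordOf_mem (v : ℕ → ZMod 2) :
    wordOf basisCode v ∈ golayCode ∧ wordOf basisCode v none = 0 := by
  refine ⟨Submodule.sum_mem _ fun i hi => Submodule.smul_mem _ _ ?_, ?_⟩
  · exact (word_mem_iff (lt_of_isCode (basis_code i (Finset.mem_range.1 hi)).1)).2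
      (basis_code i (Finset.mem_range.1 hi)).1
  · rw [wordOf, Finset.sum_apply]
    refine Finset.sum_eq_zero fun i hi => ?_
    rw [Pi.smul_apply, word_bit23, (basis_code i (Finset.mem_range.1 hi)).2]
    simp

theorem valid_code :
    Setting.Valid (actVec basisCode coordCode) dataCode symCode where
  pre := rfl
  gens := rfl
  group := group_code
  mats s hs v i hi := by
    have h := group_code
    simp only [groupOK, Bool.and_eq_true, List.all_eq_true, beq_iff_eq] at h
    have hm : inStab [] (1 <<< 23) (symCode.getD s idCode) = true := by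
      rw [List.getD_eq_getElem _ _ hs]; exact h.1.1 _ (List.getElem_mem hs)
    have hmem := mact_spec (B := basisCode) rfl h.1.2 hs (inStab_spec hm).2 ⊥ (fun j hj => by
      have := List.all_eq_true.1 (List.all_eq_true.1 mats_code s (List.mem_range.2 hs)) j
        (List.mem_range.2 hj)
      rw [beq_iff_eq.1 this, sub_self]
      exact AddSubgroup.zero_mem _) v
    rw [AddSubgroup.mem_bot, sub_eq_zero] at hmem
    rw [actVec, elt, dif_pos hm, hmem, coord_wordOf dual_code _ hi]

/-- The setting given by the hypotheses on an extension by the code module. -/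
theorem exists_setting_code {E : Type*} [Group E] (N : Subgroup E) [hN : N.Normal]
    (φ : E ⧸ N ≃* ↥Spor.M23) (ψ : Additive ↥N →+ (GolayPt → ZMod 2)) (hinj : Function.Injective ψ)
    (hrange : ∀ w, w ∈ Set.range ψ ↔ (w ∈ golayCode ∧ w none = 0))
    (hψ : ∀ (g : E) (n : ↥N), ψ (Additive.ofMul ⟨g * n * g⁻¹, hN.conj_mem n n.2 g⟩) =
      ψ (Additive.ofMul n) ∘ ⇑(((φ (QuotientGroup.mk g) : ↥Spor.M23) : Equiv.Perm GolayPt)⁻¹)) :
    ∃ T : Setting E (actVec basisCode coordCode), T.proj = quotProj N φ := by
  choose n hn using fun v => (hrange _).2 (code_wordOf_mem v)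
  refine ⟨{ proj := quotProj N φ
            surj := quotProj_surjective N φ
            iota := fun v => ((Additive.toMul (n v) : ↥N) : E)
            add := fun a b => ?_
            inj := fun a b h i hi => ?_
            congr := fun a b h => ?_
            range := fun e => ?_
            act := fun g v => ?_ }, rfl⟩
  · rw [hinj (show ψ (n (a + b)) = ψ (n a + n b) by rw [map_add, hn, hn, hn, wordOf_add])]
    rfl
  · have : n a = n b := Additive.toMul.injective (Subtype.ext h)
    rw [← coord_wordOf dual_code a hi, ← coord_wordOf dual_code b hi, ← hn, ← hn, this]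
  · have : n a = n b := hinj (by rw [hn, hn, wordOf_congr _ h])
    rw [this]
  · constructor
    · intro he
      have heN : e ∈ N := quotProj_eq_one.1 he
      set w := ψ (Additive.ofMul ⟨e, heN⟩)
      obtain ⟨h1, h2⟩ := (hrange w).1 ⟨_, rfl⟩
      refine ⟨fun o => coord (coordCode.getD o 0) w, ?_⟩
      rw [hinj (show ψ (n fun o => coord (coordCode.getD o 0) w) = ψ (Additive.ofMul ⟨e, heN⟩) by
        rw [hn, code_span h1 h2])]
      rfl
    · rintro ⟨v, rfl⟩
      exact quotProj_eq_one.2 (Additive.toMul (n v)).2
  · set m := (Additive.toMul (n v) : ↥N)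
    have h1 := hψ g m
    rw [show Additive.ofMul m = n v from rfl, hn] at h1
    set u := actVec basisCode coordCode (quotProj N φ g) v
    have hmem := (hrange _).1 ⟨_, h1⟩
    have h2 : wordOf basisCode u =
        wordOf basisCode v ∘ ⇑(((φ (QuotientGroup.mk g) : ↥Spor.M23) : Equiv.Perm GolayPt)⁻¹) :=
      code_span hmem.1 hmem.2
    have h3 : n u = Additive.ofMul ⟨g * m * g⁻¹, hN.conj_mem m m.2 g⟩ :=
      hinj (by rw [hn, h2, h1])
    show g * (m : E) = ((Additive.toMul (n u) : ↥N) : E) * g
    rw [h3]
    exact (inv_mul_cancel_right (g * (m : E)) g).symm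

/-! ### The cocode module -/

/-- The kernel of the map onto the cocode module. -/
def cocodeKer : AddSubgroup (GolayPt → ZMod 2) where
  carrier := {w | w ∈ golayCode ∨ w + Pi.single none 1 ∈ golayCode}
  zero_mem' := Or.inl (zero_mem _)
  add_mem' := by
    rintro a b (ha | ha) (hb | hb)
    · exact Or.inl (add_mem ha hb)
    · exact Or.inr (by rw [add_assoc]; exact add_mem ha hb)
    · exact Or.inr (by rw [add_right_comm]; exact add_mem ha hb)
    · refine Or.inl ?_
      have := add_mem ha hb
      rwa [add_add_add_comm, ZModModule.add_self, add_zero] at this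
  neg_mem' := by
    intro a ha
    rwa [ZModModule.neg_eq_self]

theorem word_single : word (1 <<< 23) = (Pi.single none 1 : GolayPt → ZMod 2) := by
  funext p
  have : ∀ p : GolayPt, (1 <<< 23).testBit (ix p) = decide (p = none) := by decide +kernel
  simp only [word, this, decide_eq_true_eq, Pi.single_apply]

theorem cocodeKer_of_check {x : ℕ} (h : (isCode x || isCode (x ^^^ 1 <<< 23)) = true) :
    word x ∈ cocodeKer := by
  rw [Bool.or_eq_true] at h
  rcases h with h | h
  · exact Or.inl ((word_mem_iff (lt_of_isCode h)).2 h)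
  · refine Or.inr ?_
    rw [← word_single, ← word_xor]
    exact (word_mem_iff (lt_of_isCode h)).2 h

theorem coord_cocodeKer {o : ℕ} (ho : o < 11) {w : GolayPt → ZMod 2} (hw : w ∈ cocodeKer) :
    coord (coordCocode.getD o 0) w = 0 := by
  obtain ⟨h1, h2, h3⟩ := coord_cocode_code o ho
  generalize coordCocode.getD o 0 = f at h1 h2 h3 ⊢
  have hF : word FULL = (1 : GolayPt → ZMod 2) := by decide +kernel
  rw [hF] at h1
  have hc : ∀ u ∈ golayCode, coord f u = 0 := by
    intro u hu
    refine Submodule.span_induction (p := fun u _ => coord f u = 0)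
      ?_ ?_ ?_ ?_ hu
    · rintro _ (⟨t, rfl⟩ | rfl)
      · rw [qrWord_eq]; exact h3 _ (ZMod.val_lt t)
      · exact h1
    · exact (coordHom _).map_zero
    · intro a b _ _ ha hb
      show coordHom _ (a + b) = 0
      rw [map_add]
      show coord _ a + coord _ b = 0
      rw [ha, hb, add_zero]
    · intro c a _ ha
      rcases (show ∀ z : ZMod 2, z = 0 ∨ z = 1 by decide) c with rfl | rfl
      · rw [zero_smul]; exact (coordHom _).map_zero
      · rwa [one_smul]
  rcases hw with h | h
  · exact hc w h
  · have := hc _ h
    rw [show coord f (w + Pi.single none 1) = coord f w + coord f (Pi.single none 1) from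
        (coordHom _).map_add _ _, ← word_single, h2, add_zero] at this
    exact this

theorem cocode_span (w : GolayPt → ZMod 2) :
    residue basisCocode coordCocode w ∈ cocodeKer := by
  have hw : w = ∑ p : GolayPt, w p • word (1 <<< ix p) := by
    funext x
    rw [Finset.sum_apply, Finset.sum_eq_single x (fun p _ hp => ?_) (by simp)]
    · simp [word, Nat.one_shiftLeft]
    · simp [word, Nat.one_shiftLeft, ix_inj.eq_iff, hp]
  rw [hw, map_sum]
  refine cocodeKer.sum_mem fun p _ => ?_
  rcases (show ∀ z : ZMod 2, z = 0 ∨ z = 1 by decide) (w p) with e | e <;> rw [e]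
  · rw [zero_smul, map_zero]; exact cocodeKer.zero_mem
  · rw [one_smul, residue_word rfl]
    exact cocodeKer_of_check (List.all_eq_true.1 span_cocode _ (List.mem_range.2 (ix_lt p)))

theorem valid_cocode :
    Setting.Valid (actVec basisCocode coordCocode) dataCocode symCocode where
  pre := rfl
  gens := rfl
  group := group_cocode
  mats s hs v i hi := by
    have h := group_cocode
    simp only [groupOK, Bool.and_eq_true, List.all_eq_true, beq_iff_eq] at h
    have hm : inStab [] (1 <<< 23) (symCocode.getD s idCode) = true := by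
      rw [List.getD_eq_getElem _ _ hs]; exact h.1.1 _ (List.getElem_mem hs)
    have hmem := mact_spec (B := basisCocode) rfl h.1.2 hs (inStab_spec hm).2 cocodeKer
      (fun j hj => by
        rw [sub_eq_add_neg, ZModModule.neg_eq_self, ← word_xor]
        exact cocodeKer_of_check (List.all_eq_true.1
          (List.all_eq_true.1 mats_cocode s (List.mem_range.2 hs)) j (List.mem_range.2 hj))) v
    rw [actVec, elt, dif_pos hm]
    have h0 := coord_cocodeKer hi hmem
    rw [show coord (coordCocode.getD i 0) (_ - _) = _ from (coordHom _).map_sub _ _,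
      sub_eq_zero] at h0
    exact h0.trans (coord_wordOf dual_cocode _ hi)

/-- The setting given by the hypotheses on an extension by the cocode module, with its
coordinates. -/
theorem exists_setting_cocode_iota {E : Type*} [Group E] (N : Subgroup E) [N.Normal]
    (φ : E ⧸ N ≃* ↥Spor.M23) (θ : (GolayPt → ZMod 2) →+ Additive ↥N)
    (hsurj : Function.Surjective θ)
    (hker : ∀ w, θ w = 0 ↔ (w ∈ golayCode ∨ w + Pi.single none 1 ∈ golayCode))
    (hθ : ∀ (g : E) (w : GolayPt → ZMod 2),
      ((θ (w ∘ ⇑(((φ (QuotientGroup.mk g) : ↥Spor.M23) : Equiv.Perm GolayPt)⁻¹))).toMul : E) =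
        g * ((θ w).toMul : E) * g⁻¹) :
    ∃ T : Setting E (actVec basisCocode coordCocode), T.proj = quotProj N φ ∧
      ∀ v, T.iota v = ((θ (wordOf basisCocode v)).toMul : E) := by
  have hres : ∀ w, θ (wordOf basisCocode fun o => coord (coordCocode.getD o 0) w) = θ w := by
    intro w
    have h := (hker _).2 (cocode_span w)
    rw [show residue basisCocode coordCocode w =
      w - wordOf basisCocode fun o => coord (coordCocode.getD o 0) w from rfl, map_sub,
      sub_eq_zero] at h
    exact h.symm
  refine ⟨{ proj := quotProj N φ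
            surj := quotProj_surjective N φ
            iota := fun v => ((Additive.toMul (θ (wordOf basisCocode v)) : ↥N) : E)
            add := fun a b => ?_
            inj := fun a b h i hi => ?_
            congr := fun a b h => ?_
            range := fun e => ?_
            act := fun g v => ?_ }, rfl, fun _ => rfl⟩
  · rw [wordOf_add, map_add]; rfl
  · have h' : θ (wordOf basisCocode a) = θ (wordOf basisCocode b) :=
      Additive.toMul.injective (Subtype.ext h)
    have hk : wordOf basisCocode a - wordOf basisCocode b ∈ cocodeKer :=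
      (hker _).1 (by rw [map_sub, h', sub_self])
    have := coord_cocodeKer hi hk
    rw [show coord (coordCocode.getD i 0) (_ - _) = _ from (coordHom _).map_sub _ _,
      sub_eq_zero] at this
    exact (coord_wordOf dual_cocode a hi).symm.trans (this.trans (coord_wordOf dual_cocode b hi))
  · rw [wordOf_congr _ h]
  · constructor
    · intro he
      obtain ⟨w, hw⟩ := hsurj (Additive.ofMul ⟨e, quotProj_eq_one.1 he⟩)
      exact ⟨fun o => coord (coordCocode.getD o 0) w, by rw [hres, hw]; rfl⟩
    · rintro ⟨v, rfl⟩
      exact quotProj_eq_one.2 (Additive.toMul (θ (wordOf basisCocode v))).2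
  · show g * ((θ (wordOf basisCocode v)).toMul : E) =
      ((θ (wordOf basisCocode (actVec basisCocode coordCocode (quotProj N φ g) v))).toMul : E) * g
    rw [show θ (wordOf basisCocode (actVec basisCocode coordCocode (quotProj N φ g) v)) =
      θ (wordOf basisCocode v ∘ ⇑(((φ (QuotientGroup.mk g) : ↥Spor.M23) :
        Equiv.Perm GolayPt)⁻¹)) from hres _, hθ, inv_mul_cancel_right]

/-- The setting given by the hypotheses on an extension by the cocode module. -/
theorem exists_setting_cocode {E : Type*} [Group E] (N : Subgroup E) [N.Normal]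
    (φ : E ⧸ N ≃* ↥Spor.M23) (θ : (GolayPt → ZMod 2) →+ Additive ↥N)
    (hsurj : Function.Surjective θ)
    (hker : ∀ w, θ w = 0 ↔ (w ∈ golayCode ∨ w + Pi.single none 1 ∈ golayCode))
    (hθ : ∀ (g : E) (w : GolayPt → ZMod 2),
      ((θ (w ∘ ⇑(((φ (QuotientGroup.mk g) : ↥Spor.M23) : Equiv.Perm GolayPt)⁻¹))).toMul : E) =
        g * ((θ w).toMul : E) * g⁻¹) :
    ∃ T : Setting E (actVec basisCocode coordCocode), T.proj = quotProj N φ := by
  obtain ⟨T, hT, -⟩ := exists_setting_cocode_iota N φ θ hsurj hker hθ
  exact ⟨T, hT⟩

theorem code_split {E : Type*} [Group E] [Finite E] (T : Setting E (actVec basisCode coordCode)) :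
    ∃ L : Subgroup E, L ⊓ T.proj.ker = ⊥ ∧ L ⊔ T.proj.ker = ⊤ := by
  obtain ⟨Y, c, hY, hc, hrel⟩ := T.exists_normalized valid_code rows_code solve_code
  refine T.split valid_code Y hY fun k hk => ?_
  rw [hrel k hk, hc rfl]
  rw [show (fun o => (0 : ZMod 2) * if (([] : List ℕ).getD k 0).testBit o then 1 else 0) = 0 from
    funext fun o => zero_mul _, T.iota_zero, one_mul]

/-- A non-split extension by the cocode module has the standard tails. -/
theorem cocode_tails {E : Type*} [Group E] [Finite E]
    (T : Setting E (actVec basisCocode coordCocode))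
    (hns : ∀ L : Subgroup E, L ⊓ T.proj.ker = ⊥ → L ⊔ T.proj.ker ≠ ⊤) :
    ∃ Y : ℕ → E, (∀ a < 7, T.proj (Y a) = elt symCocode a) ∧
      ∀ k < 28, Data.ev Y (pcRules.getD k ([], [])).1 =
        T.iota (fun o => if (tailCocode.getD k 0).testBit o then 1 else 0) *
          Data.ev Y (pcRules.getD k ([], [])).2 := by
  obtain ⟨Y, c, hY, -, hrel⟩ := T.exists_normalized valid_cocode rows_cocode solve_cocode
  rcases (show ∀ z : ZMod 2, z = 0 ∨ z = 1 by decide) c with rfl | rfl
  · obtain ⟨L, h1, h2⟩ := T.split valid_cocode Y hY fun k hk => by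
      rw [hrel k hk, show (fun o => (0 : ZMod 2) * if (tailCocode.getD k 0).testBit o then 1 else 0)
        = 0 from funext fun o => zero_mul _, T.iota_zero, one_mul]
    exact absurd h2 (hns L h1)
  · exact ⟨Y, hY, fun k hk => by simpa using hrel k hk⟩

end Cfsg.Agent.Lib.TailCert.Mathieu
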