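import Cfsg.Agent.Lib.TailCert.ParkerCocycle
import Cfsg.Agent.Lib.TailCert.MathieuChecks

/-! # The computation showing that the Parker extension does not split -/

set_option autoImplicit false
set_option maxRecDepth 100000

namespace Cfsg.Agent.Lib.TailCert.Parker

open Cfsg Cfsg.Agent.Lib.Golay Mathieu

/-- The defect of a coded permutation on two coded words. -/
def defectM (p A B : ℕ) : ZMod 2 :=
  theta (word (act p A)) (word (act p B)) + theta (word A) (word B)

/-- The solution of the defect equation vanishing on the basis. -/
def sgnRec (p : ℕ) : List ℕ → ℕ → ZMod 2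
  | [], _ => 0
  | B :: bs, k =>
    (if k &&& 1 = 1 then defectM p B (comb bs (k >>> 1)) else 0) + sgnRec p bs (k >>> 1)

/-- A word of generators applied to a mask. -/
def actWord : List ℕ → ℕ → ℕ
  | [], m => m
  | s :: w, m => act (gens23.getD s idCode) (actWord w m)

/-- The sign of a word of normalised lifts. -/
def wordSgn : List ℕ → ℕ → ZMod 2
  | [], _ => 0
  | s :: w, m => sgnRec (gens23.getD s idCode) basis (actWord w m &&& 4095) + wordSgn w m

/-- The identity forms on the changes of the seven lifts. -/
def idShift : List (List ℕ) :=
  (List.range 7).map fun a => (List.range 11).map fun o => 1 <<< (11 * a + o)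

theorem witness_kills : ((List.range 28).foldr (fun k acc =>
    xcomb ((List.range 11).map fun o =>
      (dataCocode.deltaL idShift (pcRules.getD k ([], [])).1).getD o 0 ^^^
        (dataCocode.deltaL idShift (pcRules.getD k ([], [])).2).getD o 0)
      (witness.getD k 0) ^^^ acc) 0) = 0 := by decide +kernel

theorem witness_pre : ((List.range 28).all fun k =>
    isCode (witnessPre.getD k 0) &&
      (actWord (pcRules.getD k ([], [])).2 (witnessPre.getD k 0) ==
        xcomb coordCocode (witness.getD k 0))) = true := by decide +kernel

theorem witness_value : ∑ k ∈ Finset.range 28, (if witness.getD k 0 = 0 then (0 : ZMod 2) else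
    wordSgn (pcRules.getD k ([], [])).1 (witnessPre.getD k 0) +
      wordSgn (pcRules.getD k ([], [])).2 (witnessPre.getD k 0)) = 1 := by decide +kernel

theorem coord_code : coordCocode.all (fun f => isCode f) = true := by decide +kernel

end Cfsg.Agent.Lib.TailCert.Parker
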