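import Mathlib

/-! # Data of the factor set of the Parker loop -/

set_option autoImplicit false

namespace Cfsg.Agent.Lib.TailCert.Parker

/-- The linear parts of the factor set. -/
def linPart : List ℕ :=
  [256, 32, 512, 1024, 64, 0, 0, 2048, 0, 0, 0, 0]

/-- The quadratic parts of the factor set. -/
def quadPart : List (List ℕ) :=
  [[0, 0, 0, 4, 0, 2, 52, 40, 254, 262, 282, 912],
   [0, 0, 0, 4, 8, 29, 48, 96, 49, 101, 169, 420],
   [0, 0, 0, 3, 0, 18, 17, 0, 161, 507, 664, 706],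
   [0, 0, 3, 0, 2, 2, 16, 17, 97, 68, 1015, 1696],
   [0, 0, 0, 2, 0, 6, 47, 72, 67, 452, 77, 225],
   [0, 1, 2, 2, 6, 0, 19, 3, 15, 134, 586, 154],
   [0, 0, 1, 0, 15, 19, 0, 18, 153, 30, 56, 1172],
   [0, 0, 0, 1, 8, 3, 18, 0, 69, 52, 14, 1919],
   [0, 1, 1, 1, 3, 15, 25, 69, 0, 21, 521, 1155],
   [0, 1, 3, 4, 4, 6, 30, 52, 21, 0, 300, 141],
   [0, 1, 0, 7, 13, 10, 56, 14, 9, 300, 0, 456],
   [0, 0, 2, 0, 1, 26, 20, 127, 131, 141, 456, 0]]

/-- A functional killing the changes of lifts. -/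
def witness : List ℕ :=
  [0, 33, 0, 0, 0, 0, 70, 72, 0, 0, 28, 0, 28, 1, 0, 0, 0, 128, 0, 0, 0, 0, 0, 0, 0, 0, 0, 0]

/-- The preimages of the words of the functional. -/
def witnessPre : List ℕ :=
  [0, 7417889, 0, 0, 0, 0, 7438406, 7409024, 0, 0, 1090380, 0, 4301220, 2422785, 0, 0, 0, 2854977, 0, 0, 0, 0, 0, 0, 0, 0, 0, 0]

end Cfsg.Agent.Lib.TailCert.Parker
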