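import Cfsg.Agent.Lib.TailCert.Basic
import Cfsg.Agent.Lib.TailCert.ParkerData
import Cfsg.Agent.Lib.Golay.M24
import Mathlib

/-! # A factor set of the Parker loop and the existence of standard automorphisms -/

set_option autoImplicit false
set_option maxRecDepth 100000

namespace Cfsg.Agent.Lib.TailCert.Parker

open Cfsg Cfsg.Agent.Lib.Golay

/-- The first twelve coordinates. -/
def cv (a : GolayPt → ZMod 2) (i : ℕ) : ZMod 2 := a (pt i)

/-- The quadratic form in the first variable attached to a coordinate of the second. -/
def qf (k : ℕ) (a : GolayPt → ZMod 2) : ZMod 2 :=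
  dot 12 (linPart.getD k 0) (cv a) +
    ∑ j ∈ Finset.range 12, cv a j * dot 12 ((quadPart.getD k []).getD j 0) (cv a)

/-- The factor set. -/
def theta (a c : GolayPt → ZMod 2) : ZMod 2 := ∑ k ∈ Finset.range 12, cv c k * qf k a

/-- The common points of two words, counted. -/
def meetCount (a b : GolayPt → ZMod 2) : ℕ :=
  (Finset.univ.filter fun x => a x = 1 ∧ b x = 1).card

/-- The triple product. -/
def triple (a b c : GolayPt → ZMod 2) : ZMod 2 := ∑ x, a x * b x * c x

/-- Half of the number of common points. -/
def halfMeet (a b : GolayPt → ZMod 2) : ZMod 2 := ((meetCount a b / 2 : ℕ) : ZMod 2)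

/-- A quarter of the weight. -/
def quarter (a : GolayPt → ZMod 2) : ZMod 2 := ((meetCount a a / 4 : ℕ) : ZMod 2)

theorem code_induction {p : (GolayPt → ZMod 2) → Prop} (h0 : p 0)
    (hadd : ∀ a b, a ∈ golayCode → b ∈ golayCode → p a → p b → p (a + b))
    (hb : ∀ B ∈ basis, p (word B)) : ∀ w ∈ golayCode, p w := by
  intro w hw
  obtain ⟨k, -, rfl⟩ := mem_code_iff.1 hw
  have key : ∀ L : List ℕ, (∀ B ∈ L, B ∈ basis) → ∀ k,
      p (word (comb L k)) ∧ word (comb L k) ∈ golayCode := by
    intro L
    induction L with
    | nil => intro _ k; rw [comb, word_zero]; exact ⟨h0, zero_mem _⟩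
    | cons B bs ih =>
      intro hL k
      rw [comb, word_xor]
      have h1 : p (word (if k &&& 1 = 1 then B else 0)) ∧
          word (if k &&& 1 = 1 then B else 0) ∈ golayCode := by
        split_ifs
        · exact ⟨hb B (hL B (by simp)), word_basis_mem B (hL B (by simp))⟩
        · rw [word_zero]; exact ⟨h0, zero_mem _⟩
      obtain ⟨h2, h3⟩ := ih (fun C hC => hL C (List.mem_cons_of_mem _ hC)) (k >>> 1)
      exact ⟨hadd _ _ h1.2 h3 h1.1 h2, add_mem h1.2 h3⟩
  exact (key basis (fun _ h => h) k).1

theorem cv_add (a b : GolayPt → ZMod 2) (i : ℕ) : cv (a + b) i = cv a i + cv b i := rfl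

theorem dot_cv_add (m : ℕ) (a b : GolayPt → ZMod 2) :
    dot 12 m (cv (a + b)) = dot 12 m (cv a) + dot 12 m (cv b) := by
  simp only [dot, ← Finset.sum_add_distrib, cv_add]
  exact Finset.sum_congr rfl fun i _ => by split_ifs <;> simp

theorem dot_cv_zero (m : ℕ) : dot 12 m (cv (0 : GolayPt → ZMod 2)) = 0 := by
  simp [dot, cv]

/-- The polar form of the quadratic form. -/
def polar (k : ℕ) (a b : GolayPt → ZMod 2) : ZMod 2 :=
  ∑ j ∈ Finset.range 12, (cv a j * dot 12 ((quadPart.getD k []).getD j 0) (cv b) +
    cv b j * dot 12 ((quadPart.getD k []).getD j 0) (cv a))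

theorem qf_add (k : ℕ) (a b : GolayPt → ZMod 2) :
    qf k (a + b) = qf k a + qf k b + polar k a b := by
  simp only [qf, polar, dot_cv_add, cv_add, add_mul, mul_add, Finset.sum_add_distrib]
  abel

theorem polar_add_left (k : ℕ) (a a' b : GolayPt → ZMod 2) :
    polar k (a + a') b = polar k a b + polar k a' b := by
  simp only [polar, dot_cv_add, cv_add, add_mul, mul_add, Finset.sum_add_distrib]
  abel

theorem polar_comm (k : ℕ) (a b : GolayPt → ZMod 2) : polar k a b = polar k b a :=
  Finset.sum_congr rfl fun _ _ => add_comm _ _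

theorem theta_add_right (a b c : GolayPt → ZMod 2) : theta a (b + c) = theta a b + theta a c := by
  simp only [theta, cv_add, add_mul, Finset.sum_add_distrib]

theorem triple_basis : ∀ A ∈ basis, ∀ B ∈ basis, ∀ C ∈ basis,
    ((List.range 24).foldl (fun acc i =>
      acc + if (A &&& B &&& C).testBit i then (1 : ZMod 2) else 0) 0) =
      ∑ k ∈ Finset.range 12, (if C.testBit k then (1 : ZMod 2) else 0) *
        ∑ j ∈ Finset.range 12, ((if A.testBit j then (1 : ZMod 2) else 0) *
          dot 12 ((quadPart.getD k []).getD j 0) (fun i => if B.testBit i then 1 else 0) +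
          (if B.testBit j then (1 : ZMod 2) else 0) *
          dot 12 ((quadPart.getD k []).getD j 0) (fun i => if A.testBit i then 1 else 0)) := by
  decide +kernel

theorem foldl_add_eq (f : ℕ → ZMod 2) : ∀ n : ℕ,
    (List.range n).foldl (fun acc i => acc + f i) 0 = ∑ i ∈ Finset.range n, f i
  | 0 => rfl
  | n + 1 => by
    rw [List.range_succ, List.foldl_concat, foldl_add_eq f n, Finset.sum_range_succ]

theorem sum_pt (f : GolayPt → ZMod 2) : ∑ x, f x = ∑ i ∈ Finset.range 24, f (pt i) := by
  refine Finset.sum_bij' (fun x _ => ix x) (fun i _ => pt i)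
    (fun x _ => Finset.mem_range.2 (ix_lt x)) (fun _ _ => Finset.mem_univ _) (fun x _ => pt_ix x)
    (fun i hi => ix_pt (Finset.mem_range.1 hi)) fun x _ => by rw [pt_ix]

theorem triple_word (A B C : ℕ) : triple (word A) (word B) (word C) =
    (List.range 24).foldl (fun acc i => acc + if (A &&& B &&& C).testBit i then (1 : ZMod 2) else 0)
      0 := by
  rw [foldl_add_eq, triple, sum_pt]
  refine Finset.sum_congr rfl fun i hi => ?_
  simp only [word, ix_pt (Finset.mem_range.1 hi), Nat.testBit_and]
  cases A.testBit i <;> cases B.testBit i <;> cases C.testBit i <;> simp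

theorem cv_word {A i : ℕ} (hi : i < 24) : cv (word A) i = if A.testBit i then 1 else 0 := by
  simp [cv, word, ix_pt hi]

theorem dot_cv_word (m A : ℕ) :
    dot 12 m (cv (word A)) = dot 12 m fun i => if A.testBit i then 1 else 0 := by
  refine Finset.sum_congr rfl fun i hi => ?_
  rw [cv_word (by have := Finset.mem_range.1 hi; omega)]

attribute [local irreducible] linPart quadPart basis dot

/-- The coboundary of the factor set. -/
theorem polar_eq_triple {a b c : GolayPt → ZMod 2} (ha : a ∈ golayCode) (hb : b ∈ golayCode)
    (hc : c ∈ golayCode) : ∑ k ∈ Finset.range 12, cv c k * polar k a b = triple a b c := by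
  revert a b c
  suffices h : ∀ a ∈ golayCode, ∀ b ∈ golayCode, ∀ c ∈ golayCode,
      ∑ k ∈ Finset.range 12, cv c k * polar k a b = triple a b c from
    fun {a b c} ha hb hc => h a ha b hb c hc
  refine code_induction (fun b _ c _ => ?_) (fun x y _ _ hx hy b hb c hc => ?_) fun A hA => ?_
  · simp [polar, triple, cv, dot_cv_zero]
  · rw [show ∀ s, triple (x + y) b s = triple x b s + triple y b s from fun s => by
      simp [triple, add_mul, Finset.sum_add_distrib], ← hx b hb c hc, ← hy b hb c hc,
      ← Finset.sum_add_distrib]
    exact Finset.sum_congr rfl fun k _ => by rw [polar_add_left, mul_add]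
  refine code_induction (fun c _ => ?_) (fun x y _ _ hx hy c hc => ?_) fun B hB => ?_
  · simp [polar, triple, cv, dot_cv_zero]
  · rw [show triple (word A) (x + y) c = triple (word A) x c + triple (word A) y c by
      simp [triple, mul_add, add_mul, Finset.sum_add_distrib], ← hx c hc, ← hy c hc,
      ← Finset.sum_add_distrib]
    refine Finset.sum_congr rfl fun k _ => ?_
    rw [polar_comm, polar_add_left, mul_add, polar_comm k x, polar_comm k y]
  refine code_induction ?_ (fun x y _ _ hx hy => ?_) fun C hC => ?_
  · simp [triple, cv]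
  · rw [show triple (word A) (word B) (x + y) =
      triple (word A) (word B) x + triple (word A) (word B) y by
      simp [triple, mul_add, Finset.sum_add_distrib], ← hx, ← hy, ← Finset.sum_add_distrib]
    exact Finset.sum_congr rfl fun k _ => by rw [cv_add, add_mul]
  rw [triple_word, triple_basis A hA B hB C hC]
  refine Finset.sum_congr rfl fun k hk => ?_
  rw [cv_word (by have := Finset.mem_range.1 hk; omega)]
  have hs : polar k (word A) (word B) = ∑ j ∈ Finset.range 12,
      ((if A.testBit j then (1 : ZMod 2) else 0) *
          dot 12 ((quadPart.getD k []).getD j 0) (fun i => if B.testBit i then 1 else 0) +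
        (if B.testBit j then (1 : ZMod 2) else 0) *
          dot 12 ((quadPart.getD k []).getD j 0) (fun i => if A.testBit i then 1 else 0)) := by
    unfold polar
    apply Finset.sum_congr rfl
    intro j hj
    rw [dot_cv_word, dot_cv_word, cv_word (by have := Finset.mem_range.1 hj; omega),
      cv_word (by have := Finset.mem_range.1 hj; omega)]
  rw [hs]

theorem theta_add_left {a b c : GolayPt → ZMod 2} (ha : a ∈ golayCode) (hb : b ∈ golayCode)
    (hc : c ∈ golayCode) : theta (a + b) c = theta a c + theta b c + triple a b c := by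
  rw [← polar_eq_triple ha hb hc, theta, theta, theta, ← Finset.sum_add_distrib,
    ← Finset.sum_add_distrib]
  exact Finset.sum_congr rfl fun k _ => by rw [qf_add, mul_add, mul_add]

theorem meetCount_comm (a b : GolayPt → ZMod 2) : meetCount a b = meetCount b a := by
  simp only [meetCount, and_comm]

theorem bit_cases : ∀ z : ZMod 2, z = 0 ∨ z = 1 := by decide

theorem meetCount_cast (a b : GolayPt → ZMod 2) :
    ((meetCount a b : ℕ) : ZMod 2) = ∑ x, a x * b x := by
  rw [meetCount, Finset.card_filter, Nat.cast_sum]
  refine Finset.sum_congr rfl fun x _ => ?_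
  rcases bit_cases (a x) with h | h <;> rcases bit_cases (b x) with h' | h' <;> simp [h, h']

theorem meet_basis : ∀ A ∈ basis, ∀ B ∈ basis, ∑ x : GolayPt, word A x * word B x = 0 := by
  decide +kernel

theorem orth {a b : GolayPt → ZMod 2} (ha : a ∈ golayCode) (hb : b ∈ golayCode) :
    ∑ x, a x * b x = 0 := by
  revert b
  refine code_induction (p := fun a => ∀ {b}, b ∈ golayCode → ∑ x, a x * b x = 0)
    (fun _ => by simp) (fun x y _ _ hx hy b hb => ?_) (fun A hA b hb => ?_) a ha
  · simp only [Pi.add_apply, add_mul, Finset.sum_add_distrib, hx hb, hy hb, add_zero]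
  · refine code_induction (p := fun b => ∑ x, word A x * b x = 0) (by simp)
      (fun x y _ _ hx hy => ?_) (fun B hB => meet_basis A hA B hB) b hb
    simp only [Pi.add_apply, mul_add, Finset.sum_add_distrib, hx, hy, add_zero]

theorem meet_even {a b : GolayPt → ZMod 2} (ha : a ∈ golayCode) (hb : b ∈ golayCode) :
    2 ∣ meetCount a b := by
  rw [← ZMod.natCast_eq_zero_iff, meetCount_cast]
  exact orth ha hb

theorem meetCount_add (a b c : GolayPt → ZMod 2) :
    meetCount (a + b) c + 2 * (Finset.univ.filter fun x => a x = 1 ∧ b x = 1 ∧ c x = 1).card =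
      meetCount a c + meetCount b c := by
  simp only [meetCount, Finset.card_filter, Finset.mul_sum, ← Finset.sum_add_distrib]
  refine Finset.sum_congr rfl fun x _ => ?_
  rcases bit_cases (a x) with h | h <;> rcases bit_cases (b x) with h' | h' <;>
    rcases bit_cases (c x) with h'' | h'' <;> simp [h, h', h'', CharTwo.add_self_eq_zero]

theorem halfMeet_add {a b c : GolayPt → ZMod 2} (ha : a ∈ golayCode) (hb : b ∈ golayCode)
    (hc : c ∈ golayCode) : halfMeet (a + b) c = halfMeet a c + halfMeet b c + triple a b c := by
  have h := meetCount_add a b c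
  obtain ⟨i, hi⟩ := meet_even (add_mem ha hb) hc
  obtain ⟨j, hj⟩ := meet_even ha hc
  obtain ⟨l, hl⟩ := meet_even hb hc
  set t := (Finset.univ.filter fun x => a x = 1 ∧ b x = 1 ∧ c x = 1).card with ht
  have htr : ((t : ℕ) : ZMod 2) = triple a b c := by
    rw [ht, Finset.card_filter, Nat.cast_sum]
    refine Finset.sum_congr rfl fun x _ => ?_
    rcases bit_cases (a x) with h | h <;> rcases bit_cases (b x) with h' | h' <;>
      rcases bit_cases (c x) with h'' | h'' <;> simp [h, h', h'']
  rw [halfMeet, halfMeet, halfMeet, hi, hj, hl, Nat.mul_div_cancel_left _ two_pos,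
    Nat.mul_div_cancel_left _ two_pos, Nat.mul_div_cancel_left _ two_pos, ← htr,
    ← Nat.cast_add, show j + l = i + t by omega, Nat.cast_add, add_assoc,
    CharTwo.add_self_eq_zero, add_zero]

theorem four_dvd {a : GolayPt → ZMod 2} (ha : a ∈ golayCode) : 4 ∣ meetCount a a := by
  refine code_induction (p := fun a => 4 ∣ meetCount a a) (by simp [meetCount]) ?_
    (by decide +kernel) a ha
  intro x y hx hy h1 h2
  have e1 : meetCount (x + y) (x + y) + 2 * meetCount x y = meetCount x x + meetCount y y := by
    simp only [meetCount, Finset.card_filter, Finset.mul_sum, ← Finset.sum_add_distrib]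
    refine Finset.sum_congr rfl fun p _ => ?_
    rcases bit_cases (x p) with h | h <;> rcases bit_cases (y p) with h' | h' <;>
      simp [h, h', CharTwo.add_self_eq_zero]
  have e2 := meet_even hx hy
  omega

theorem quarter_add {a b : GolayPt → ZMod 2} (ha : a ∈ golayCode) (hb : b ∈ golayCode) :
    quarter (a + b) = quarter a + quarter b + halfMeet a b := by
  obtain ⟨i, hi⟩ := four_dvd (add_mem ha hb)
  obtain ⟨j, hj⟩ := four_dvd ha
  obtain ⟨l, hl⟩ := four_dvd hb
  obtain ⟨m, hm⟩ := meet_even ha hb
  have e1 : meetCount (a + b) (a + b) + 2 * meetCount a b = meetCount a a + meetCount b b := by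
    simp only [meetCount, Finset.card_filter, Finset.mul_sum, ← Finset.sum_add_distrib]
    refine Finset.sum_congr rfl fun p _ => ?_
    rcases bit_cases (a p) with h | h <;> rcases bit_cases (b p) with h' | h' <;>
      simp [h, h', CharTwo.add_self_eq_zero]
  rw [quarter, quarter, quarter, halfMeet, hi, hj, hl, hm, Nat.mul_div_cancel_left _ four_pos,
    Nat.mul_div_cancel_left _ four_pos, Nat.mul_div_cancel_left _ four_pos,
    Nat.mul_div_cancel_left _ two_pos, ← Nat.cast_add, show j + l = i + m by omega, Nat.cast_add,
    add_assoc, CharTwo.add_self_eq_zero, add_zero]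

theorem symm_basis : ∀ A ∈ basis, ∀ B ∈ basis,
    theta (word A) (word B) + theta (word B) (word A) = halfMeet (word A) (word B) := by
  decide +kernel

theorem diag_basis : ∀ A ∈ basis, theta (word A) (word A) = quarter (word A) := by
  decide +kernel

theorem triple_rot (a b c : GolayPt → ZMod 2) :
    triple a b c = triple b c a ∧ triple a b c = triple b a c := by
  constructor <;> exact Finset.sum_congr rfl fun x _ => by ring

/-- The commutator of the loop. -/
theorem theta_symm {a b : GolayPt → ZMod 2} (ha : a ∈ golayCode) (hb : b ∈ golayCode) :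
    theta a b + theta b a = halfMeet a b := by
  revert b
  refine code_induction (p := fun a => ∀ {b}, b ∈ golayCode → theta a b + theta b a = halfMeet a b)
    (fun {b} hb => ?_) (fun x y hx hy h1 h2 b hb => ?_) (fun A hA b hb => ?_) a ha
  · simp [theta, halfMeet, meetCount, qf, cv, dot_cv_zero]
  · rw [theta_add_left hx hy hb, theta_add_right, halfMeet_add hx hy hb, ← h1 hb, ← h2 hb]
    abel
  · have hAc := word_basis_mem A hA
    refine code_induction (p := fun b => theta (word A) b + theta b (word A) = halfMeet (word A) b)
      ?_ (fun x y hx hy h1 h2 => ?_) (fun B hB => symm_basis A hA B hB) b hb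
    · simp [theta, halfMeet, meetCount, qf, cv, dot_cv_zero]
    · have e : halfMeet (word A) (x + y) = halfMeet (word A) x + halfMeet (word A) y +
          triple x y (word A) := by
        simp only [halfMeet, meetCount_comm (word A)]
        exact halfMeet_add hx hy hAc
      rw [theta_add_right, theta_add_left hx hy hAc, e, ← h1, ← h2]
      abel

/-- The squares of the loop. -/
theorem theta_diag {a : GolayPt → ZMod 2} (ha : a ∈ golayCode) : theta a a = quarter a := by
  refine code_induction (p := fun a => theta a a = quarter a) ?_ (fun x y hx hy h1 h2 => ?_)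
    diag_basis a ha
  · simp [theta, quarter, meetCount, cv]
  · rw [theta_add_left hx hy (add_mem hx hy), theta_add_right, theta_add_right, quarter_add hx hy,
      ← theta_symm hx hy, h1, h2]
    have h0 : triple x y (x + y) = 0 := by
      have e : triple x y (x + y) = ∑ p, (x p * y p + x p * y p) := by
        refine Finset.sum_congr rfl fun p _ => ?_
        rcases bit_cases (x p) with h | h <;> rcases bit_cases (y p) with h' | h' <;>
          simp [h, h', CharTwo.add_self_eq_zero]
      rw [e, Finset.sum_eq_zero fun p _ => CharTwo.add_self_eq_zero _]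
    rw [h0]
    abel

end Cfsg.Agent.Lib.TailCert.Parker
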