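import Cfsg.Agent.Lib.TailCert.ParkerCocycle
import Cfsg.Prelude.Def_Spor_Mathieu

/-! # The standard automorphisms of the Parker loop over `M23` -/

set_option autoImplicit false

namespace Cfsg.Agent.Lib.TailCert.Parker

open Cfsg Cfsg.Agent.Lib.Golay
open scoped Pointwise

/-- The action on words. -/
def perm (σ : Spor.M23) (w : GolayPt → ZMod 2) : GolayPt → ZMod 2 :=
  w ∘ ⇑((σ : Equiv.Perm GolayPt)⁻¹)

theorem perm_add (σ : Spor.M23) (a b : GolayPt → ZMod 2) :
    perm σ (a + b) = perm σ a + perm σ b := rfl

theorem perm_one (w : GolayPt → ZMod 2) : perm 1 w = w := by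
  funext x; simp [perm]

theorem perm_mul (σ τ : Spor.M23) (w : GolayPt → ZMod 2) :
    perm (σ * τ) w = perm σ (perm τ w) := by
  funext x; simp [perm, mul_inv_rev]

theorem perm_mem (σ : Spor.M23) {w : GolayPt → ZMod 2} (hw : w ∈ golayCode) :
    perm σ w ∈ golayCode := by
  have hs : support₂ (perm σ w) = (σ : Equiv.Perm GolayPt) • support₂ w := by
    ext x
    rw [← Finset.inv_smul_mem_iff]
    simp only [support₂]
    rw [Finset.mem_filter, Finset.mem_filter]
    simp [perm, Equiv.Perm.smul_def]
  have hm : (σ : Equiv.Perm GolayPt) • support₂ w ∈ codeSets :=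
    mem_codeSets_smul (Subgroup.mem_inf.1 σ.2).1 ⟨w, hw, rfl⟩
  obtain ⟨m, hm1, hm2⟩ := mem_codeSets.1 hm
  rw [← word_mask (perm σ w), hs, ← hm2, mask_toSet (lt_of_isCode hm1)]
  exact (word_mem_iff (lt_of_isCode hm1)).2 hm1

theorem meetCount_perm (σ : Spor.M23) (a b : GolayPt → ZMod 2) :
    meetCount (perm σ a) (perm σ b) = meetCount a b := by
  refine Finset.card_bij' (fun x _ => (σ : Equiv.Perm GolayPt)⁻¹ x)
    (fun x _ => (σ : Equiv.Perm GolayPt) x) (fun x hx => ?_) (fun x hx => ?_) (fun x hx => ?_)
    fun x hx => ?_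
  · rw [Finset.mem_filter] at hx ⊢
    exact ⟨Finset.mem_univ _, hx.2⟩
  · rw [Finset.mem_filter] at hx ⊢
    refine ⟨Finset.mem_univ _, ?_⟩
    simpa [perm] using hx.2
  · exact Equiv.apply_symm_apply _ _
  · exact Equiv.symm_apply_apply _ _

theorem triple_perm (σ : Spor.M23) (a b c : GolayPt → ZMod 2) :
    triple (perm σ a) (perm σ b) (perm σ c) = triple a b c :=
  Equiv.sum_comp ((σ : Equiv.Perm GolayPt)⁻¹) fun x => a x * b x * c x

/-- The defect of a permutation on the factor set. -/
def defect (σ : Spor.M23) (a b : golayCode) : ZMod 2 :=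
  theta (perm σ a.1) (perm σ b.1) + theta a.1 b.1

theorem defect_cocycle (σ : Spor.M23) (a b c : golayCode) :
    defect σ a b + defect σ (a + b) c = defect σ a (b + c) + defect σ b c := by
  simp only [defect, Submodule.coe_add, perm_add,
    theta_add_left (perm_mem σ a.2) (perm_mem σ b.2) (perm_mem σ c.2),
    theta_add_left a.2 b.2 c.2, theta_add_right, triple_perm]
  have key : ∀ p q r s t u v : ZMod 2,
      p + s + (q + r + v + (t + u + v)) = p + q + (s + t) + (r + u) := by decide
  exact key _ _ _ _ _ _ _

theorem defect_symm (σ : Spor.M23) (a b : golayCode) : defect σ a b = defect σ b a := by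
  have h1 := theta_symm (perm_mem σ a.2) (perm_mem σ b.2)
  have h2 := theta_symm a.2 b.2
  rw [halfMeet, meetCount_perm] at h1
  rw [halfMeet] at h2
  have key : ∀ p q r s t : ZMod 2, p + q = t → r + s = t → p + r = q + s := by decide
  exact key _ _ _ _ _ h1 h2

theorem defect_self (σ : Spor.M23) (a : golayCode) : defect σ a a = 0 := by
  rw [defect, theta_diag (perm_mem σ a.2), theta_diag a.2, quarter, meetCount_perm, quarter,
    CharTwo.add_self_eq_zero]

/-- The extension of the code by a defect. -/
structure Twist (σ : Spor.M23) where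
  /-- The word. -/
  pt : golayCode
  /-- The sign. -/
  sign : ZMod 2

theorem defect_zero (σ : Spor.M23) (a : golayCode) : defect σ 0 a = 0 := by
  have h := defect_cocycle σ 0 0 a
  rw [add_zero, zero_add, defect_self, zero_add] at h
  exact left_eq_add.1 h

theorem exists_defect_solution (σ : Spor.M23) :
    ∃ f : golayCode → ZMod 2, ∀ a b, f (a + b) + f a + f b = defect σ a b := by
  classical
  letI : Add (Twist σ) := ⟨fun x y => ⟨x.pt + y.pt, x.sign + y.sign + defect σ x.pt y.pt⟩⟩
  letI : Zero (Twist σ) := ⟨⟨0, 0⟩⟩
  letI : Neg (Twist σ) := ⟨fun x => x⟩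
  have hadd : ∀ x y : Twist σ, x + y =
      ⟨x.pt + y.pt, x.sign + y.sign + defect σ x.pt y.pt⟩ := fun _ _ => rfl
  have hext : ∀ x y : Twist σ, x.pt = y.pt → x.sign = y.sign → x = y := by
    rintro ⟨a, b⟩ ⟨c, d⟩ h1 h2; exact congrArg₂ Twist.mk h1 h2
  have hz : ∀ x : Twist σ, 0 + x = x := fun x => hext _ _ (zero_add _) (by
    show 0 + x.sign + defect σ 0 x.pt = x.sign
    rw [defect_zero, zero_add, add_zero])
  have hs : ∀ x : Twist σ, x + x = 0 := fun x => hext _ _ (Subtype.ext (ZModModule.add_self _)) (by
    show x.sign + x.sign + defect σ x.pt x.pt = 0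
    rw [defect_self, CharTwo.add_self_eq_zero, add_zero])
  have hc : ∀ x y : Twist σ, x + y = y + x := fun x y => hext _ _ (add_comm _ _) (by
    show x.sign + y.sign + defect σ x.pt y.pt = y.sign + x.sign + defect σ y.pt x.pt
    rw [defect_symm σ x.pt, add_comm x.sign])
  have ha : ∀ x y z : Twist σ, x + y + z = x + (y + z) := fun x y z => hext _ _ (add_assoc _ _ _) (by
    show x.sign + y.sign + defect σ x.pt y.pt + z.sign + defect σ (x.pt + y.pt) z.pt =
      x.sign + (y.sign + z.sign + defect σ y.pt z.pt) + defect σ x.pt (y.pt + z.pt)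
    have h := defect_cocycle σ x.pt y.pt z.pt
    calc _ = x.sign + y.sign + z.sign + (defect σ x.pt y.pt + defect σ (x.pt + y.pt) z.pt) := by
          abel
      _ = _ := by rw [h]; abel)
  letI : AddCommGroup (Twist σ) :=
    { add_assoc := ha
      zero_add := hz
      add_zero := fun x => by rw [hc, hz]
      nsmul := nsmulRec
      zsmul := zsmulRec
      neg_add_cancel := hs
      add_comm := hc }
  letI : Module (ZMod 2) (Twist σ) := AddCommGroup.zmodModule fun x => by
    rw [two_nsmul]; exact hs x
  let π : Twist σ →+ golayCode :=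
    { toFun := Twist.pt
      map_zero' := rfl
      map_add' := fun _ _ => rfl }
  obtain ⟨g, hg⟩ := LinearMap.exists_rightInverse_of_surjective (π.toZModLinearMap 2)
    (LinearMap.range_eq_top.2 fun w => ⟨⟨w, 0⟩, rfl⟩)
  have hpt : ∀ w, (g w).pt = w := fun w => congrArg (fun l : _ →ₗ[ZMod 2] _ => l w) hg
  refine ⟨fun w => (g w).sign, fun a b => ?_⟩
  show (g (a + b)).sign + (g a).sign + (g b).sign = _
  rw [map_add, hadd]
  show (g a).sign + (g b).sign + defect σ (g a).pt (g b).pt + (g a).sign + (g b).sign = _
  rw [hpt, hpt]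
  have key : ∀ p q r : ZMod 2, p + q + r + p + q = r := by decide
  exact key _ _ _

/-- A standard automorphism: a permutation with a solution of its defect. -/
structure StdAut where
  /-- The permutation. -/
  base : Spor.M23
  /-- The signs. -/
  sgn : golayCode → ZMod 2
  sol : ∀ a b, sgn (a + b) + sgn a + sgn b = defect base a b

theorem StdAut.ext' {x y : StdAut} (h1 : x.base = y.base) (h2 : x.sgn = y.sgn) : x = y := by
  cases x; cases y; subst h1; subst h2; rfl

/-- The action on the code. -/
def onCode (σ : Spor.M23) (w : golayCode) : golayCode := ⟨perm σ w.1, perm_mem σ w.2⟩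

theorem onCode_add (σ : Spor.M23) (a b : golayCode) :
    onCode σ (a + b) = onCode σ a + onCode σ b := rfl

theorem onCode_one (a : golayCode) : onCode 1 a = a := Subtype.ext (perm_one _)

theorem onCode_mul (σ τ : Spor.M23) (a : golayCode) :
    onCode (σ * τ) a = onCode σ (onCode τ a) := Subtype.ext (perm_mul _ _ _)

theorem defect_mul (σ τ : Spor.M23) (a b : golayCode) :
    defect (σ * τ) a b = defect σ (onCode τ a) (onCode τ b) + defect τ a b := by
  simp only [defect, onCode, perm_mul]
  have key : ∀ p q r : ZMod 2, p + r = p + q + (q + r) := by decide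
  exact key _ _ _

theorem defect_one (a b : golayCode) : defect 1 a b = 0 := by
  simp [defect, perm_one, CharTwo.add_self_eq_zero]

instance : Mul StdAut where
  mul x y :=
    { base := x.base * y.base
      sgn := fun w => x.sgn (onCode y.base w) + y.sgn w
      sol := fun a b => by
        rw [defect_mul, onCode_add, ← x.sol, ← y.sol]
        abel }

instance : One StdAut where
  one :=
    { base := 1
      sgn := fun _ => 0
      sol := fun a b => by rw [defect_one]; simp }

instance : Inv StdAut where
  inv x :=
    { base := x.base⁻¹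
      sgn := fun w => x.sgn (onCode x.base⁻¹ w)
      sol := fun a b => by
        rw [onCode_add, x.sol]
        have h := defect_mul x.base x.base⁻¹ a b
        rw [mul_inv_cancel, defect_one] at h
        have key : ∀ p q : ZMod 2, 0 = p + q → p = q := by decide
        exact key _ _ h }

theorem base_mul (x y : StdAut) : (x * y).base = x.base * y.base := rfl

theorem sgn_mul (x y : StdAut) (w : golayCode) :
    (x * y).sgn w = x.sgn (onCode y.base w) + y.sgn w := rfl

theorem sgn_zero (x : StdAut) : x.sgn 0 = 0 := by
  have h := x.sol 0 0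
  rw [add_zero, CharTwo.add_self_eq_zero, zero_add, defect_self] at h
  exact h

instance : Group StdAut where
  mul_assoc x y z := StdAut.ext' (mul_assoc _ _ _) (funext fun w => by
    simp only [sgn_mul, base_mul, onCode_mul, add_assoc])
  one_mul x := StdAut.ext' (one_mul _) (funext fun w => zero_add _)
  mul_one x := StdAut.ext' (mul_one _) (funext fun w => by
    show x.sgn (onCode 1 w) + 0 = x.sgn w
    rw [onCode_one, add_zero])
  inv_mul_cancel x := StdAut.ext' (inv_mul_cancel _) (funext fun w => by
    show x.sgn (onCode x.base⁻¹ (onCode x.base w)) + x.sgn w = 0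
    rw [← onCode_mul, inv_mul_cancel, onCode_one, CharTwo.add_self_eq_zero])

/-- The projection onto the permutations. -/
def baseHom : StdAut →* Spor.M23 where
  toFun := StdAut.base
  map_one' := rfl
  map_mul' _ _ := rfl

theorem baseHom_surjective : Function.Surjective baseHom := fun σ =>
  ⟨⟨σ, (exists_defect_solution σ).choose, (exists_defect_solution σ).choose_spec⟩, rfl⟩

/-- The pairing with the code. -/
def pair (x : GolayPt → ZMod 2) (w : golayCode) : ZMod 2 := ∑ p, x p * w.1 p

theorem pair_add_left (x y : GolayPt → ZMod 2) (w : golayCode) :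
    pair (x + y) w = pair x w + pair y w := by
  simp [pair, add_mul, Finset.sum_add_distrib]

theorem pair_add_right (x : GolayPt → ZMod 2) (v w : golayCode) :
    pair x (v + w) = pair x v + pair x w := by
  simp [pair, mul_add, Finset.sum_add_distrib]

/-- The automorphism fixing every point with the given linear signs. -/
def linAut (x : GolayPt → ZMod 2) : StdAut where
  base := 1
  sgn := pair x
  sol a b := by
    rw [defect_one, pair_add_right]
    exact (by decide : ∀ p q : ZMod 2, p + q + p + q = 0) _ _

theorem linAut_add (x y : GolayPt → ZMod 2) : linAut (x + y) = linAut x * linAut y :=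
  StdAut.ext' (one_mul (1 : Spor.M23)).symm (funext fun w => by
    show pair (x + y) w = pair x (onCode 1 w) + pair y w
    rw [onCode_one, pair_add_left])

theorem conj_linAut (g : StdAut) (x : GolayPt → ZMod 2) :
    g * linAut x = linAut (perm g.base x) * g := by
  refine StdAut.ext' ((mul_one _).trans (one_mul _).symm) (funext fun w => ?_)
  show g.sgn (onCode 1 w) + pair x w = pair (perm g.base x) (onCode g.base w) + g.sgn w
  rw [onCode_one, add_comm]
  refine congrArg (· + g.sgn w) ?_
  exact (Equiv.sum_comp (g.base : Equiv.Perm GolayPt)⁻¹ fun p => x p * w.1 p).symm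

theorem exists_linAut {g : StdAut} (hg : g.base = 1) : ∃ x, linAut x = g := by
  classical
  have hlin : ∀ a b, g.sgn (a + b) = g.sgn a + g.sgn b := fun a b => by
    have h := g.sol a b
    rw [hg, defect_one] at h
    exact (by decide : ∀ p q r : ZMod 2, p + q + r = 0 → p = q + r) _ _ _ h
  let e : ℕ → golayCode := fun i =>
    if h : word (basis.getD i 0) ∈ golayCode then ⟨_, h⟩ else 0
  refine ⟨fun p => if ix p < 12 then g.sgn (e (ix p)) else 0, StdAut.ext' hg.symm (funext ?_)⟩
  rintro ⟨w, hw⟩
  revert hw
  suffices h : ∀ w ∈ golayCode, ∀ hw : w ∈ golayCode,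
      pair (fun p => if ix p < 12 then g.sgn (e (ix p)) else 0) ⟨w, hw⟩ = g.sgn ⟨w, hw⟩ from
    fun hw => h w hw hw
  refine code_induction (fun hw => ?_) (fun a b ha hb h1 h2 hw => ?_) fun B hB hw => ?_
  · rw [show (⟨0, hw⟩ : golayCode) = 0 from rfl, sgn_zero]
    simp [pair]
  · rw [show (⟨a + b, hw⟩ : golayCode) = ⟨a, ha⟩ + ⟨b, hb⟩ from rfl, hlin, ← h1, ← h2,
      pair_add_right]
  · obtain ⟨j, hj, rfl⟩ := List.getElem_of_mem hB
    have hlow : ∀ j < 12, ∀ p : GolayPt, ix p < 12 →
        (basis.getD j 0).testBit (ix p) = decide (ix p = j) := by decide +kernel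
    have hlen : basis.length = 12 := rfl
    have hj' : j < 12 := by omega
    have hget : basis.getD j 0 = basis[j] := List.getD_eq_getElem _ _ hj
    have hlow' : ∀ p : GolayPt, ix p < 12 → basis[j].testBit (ix p) = decide (ix p = j) := by
      intro p hp
      rw [← hget]
      exact hlow j hj' p hp
    have hix : ix (pt j) = j := ix_pt (by omega)
    rw [pair, Finset.sum_eq_single (pt j)]
    · have e1 : e j = ⟨word basis[j], hw⟩ := by
        have hm : word (basis.getD j 0) ∈ golayCode := by rw [hget]; exact hw
        show dite _ _ _ = _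
        rw [dif_pos hm]
        exact Subtype.ext (congrArg word hget)
      show (if ix (pt j) < 12 then g.sgn (e (ix (pt j))) else 0) * word basis[j] (pt j) = _
      have hbit := hlow' (pt j) (by omega)
      rw [hix, decide_eq_true rfl] at hbit
      rw [hix, if_pos hj', e1]
      show g.sgn _ * (if _ then 1 else 0) = _
      rw [hix, if_pos hbit]
      exact mul_one _
    · intro p _ hp
      by_cases h : ix p < 12
      · have hne : ix p ≠ j := fun h' => hp (by rw [← h', pt_ix])
        show _ * word basis[j] p = 0
        rw [word, hlow' p h]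
        simp [hne]
      · simp [h]
    · simp

end Cfsg.Agent.Lib.TailCert.Parker
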