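import Cfsg.Agent.Lib.TailCert.MathieuModules
import Cfsg.Agent.Lib.TailCert.ParkerChecks
import Cfsg.Agent.Lib.TailCert.ParkerGroup

/-! # A non-split extension of `M23` by its cocode module -/

set_option autoImplicit false

namespace Cfsg.Agent.Lib.TailCert.Parker

open Cfsg Cfsg.Agent.Lib.Golay Mathieu

instance finite_stdAut : Finite StdAut :=
  Finite.of_injective (fun g => (g.base, g.sgn)) fun _ _ h =>
    StdAut.ext' (congrArg Prod.fst h) (congrArg Prod.snd h)

theorem base_linAut (x : GolayPt → ZMod 2) : baseHom (linAut x) = 1 := rfl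

theorem perm_none (σ : Spor.M23) : perm σ (Pi.single none 1) = Pi.single none 1 := by
  have hσ : (σ : Equiv.Perm GolayPt) none = none := (Subgroup.mem_inf.1 σ.2).2
  funext x
  simp only [perm, Function.comp_apply, Pi.single_apply]
  refine if_congr ⟨fun h => ?_, fun h => ?_⟩ rfl rfl
  · rw [Equiv.Perm.inv_def, Equiv.symm_apply_eq, hσ] at h; exact h
  · rw [Equiv.Perm.inv_def, Equiv.symm_apply_eq, hσ]; exact h

/-- The sign change at the extra point. -/
def extraAut : StdAut := linAut (Pi.single none 1)

/-- The central subgroup to be removed. -/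
def extraSub : Subgroup StdAut := Subgroup.zpowers extraAut

instance extraSub_normal : extraSub.Normal := ⟨by
  intro a ha g
  obtain ⟨k, rfl⟩ := Subgroup.mem_zpowers_iff.1 ha
  have h : Commute g extraAut := by
    have := conj_linAut g (Pi.single none 1)
    rwa [perm_none] at this
  rw [(h.zpow_right k).eq, mul_inv_cancel_right]
  exact Subgroup.zpow_mem _ (Subgroup.mem_zpowers _) k⟩

theorem extraSub_le : extraSub ≤ baseHom.ker := Subgroup.zpowers_le.2 (base_linAut _)

/-- The extension. -/
abbrev Ext : Type := StdAut ⧸ extraSub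

/-- Its projection. -/
def extProj : Ext →* Spor.M23 := QuotientGroup.lift extraSub baseHom extraSub_le

theorem extProj_surjective : Function.Surjective extProj := fun σ => by
  obtain ⟨g, hg⟩ := baseHom_surjective σ
  exact ⟨QuotientGroup.mk g, hg⟩

theorem linAut_zero : linAut 0 = 1 := StdAut.ext' rfl (funext fun w => by simp [linAut, pair]; rfl)

/-- The map of the words onto the kernel. -/
noncomputable def extWord : (GolayPt → ZMod 2) →+ Additive ↥extProj.ker where
  toFun x := Additive.ofMul ⟨QuotientGroup.mk (linAut x), rfl⟩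
  map_zero' := congrArg Additive.ofMul (Subtype.ext (congrArg QuotientGroup.mk linAut_zero))
  map_add' x y := congrArg Additive.ofMul (Subtype.ext
    ((congrArg QuotientGroup.mk (linAut_add x y)).trans (QuotientGroup.mk_mul _ _ _)))

theorem extWord_val (x : GolayPt → ZMod 2) :
    ((extWord x).toMul : Ext) = QuotientGroup.mk (linAut x) := rfl

theorem extWord_surjective : Function.Surjective extWord := by
  intro n
  obtain ⟨g, hg⟩ := QuotientGroup.mk_surjective ((Additive.toMul n).1)
  have h := (Additive.toMul n).2
  rw [MonoidHom.mem_ker, ← hg] at h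
  obtain ⟨x, rfl⟩ := exists_linAut (g := g) h
  exact ⟨x, Additive.toMul.injective (Subtype.ext hg)⟩

theorem pair_code {x : GolayPt → ZMod 2} (hx : x ∈ golayCode) (w : golayCode) : pair x w = 0 :=
  orth hx w.2

/-- The pairing with a mask. -/
def pairM (x : GolayPt → ZMod 2) (m : ℕ) : ZMod 2 := ∑ p, x p * word m p

theorem coord_eq_pairM (f : ℕ) (x : GolayPt → ZMod 2) : coord f x = pairM x f := by
  refine Finset.sum_congr rfl fun p _ => ?_
  simp only [word]
  split_ifs <;> simp

theorem extWord_eq_zero {x : GolayPt → ZMod 2} : extWord x = 0 ↔ x ∈ cocodeKer := by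
  constructor
  · intro h
    have h1 : linAut x ∈ extraSub := (QuotientGroup.eq_one_iff _).1 ((extWord_val x).symm.trans
      (congrArg (fun n : Additive ↥extProj.ker => ((Additive.toMul n : ↥extProj.ker) : Ext)) h))
    obtain ⟨k, hk⟩ := Subgroup.mem_zpowers_iff.1 h1
    have hsq : extraAut ^ 2 = 1 := by
      rw [pow_two, extraAut, ← linAut_add, ZModModule.add_self, linAut_zero]
    obtain ⟨x', hx', hker⟩ : ∃ x', linAut x' = 1 ∧ (x' = x ∨ x' = x + Pi.single none 1) := by
      rcases Int.even_or_odd k with ⟨m, rfl⟩ | ⟨m, rfl⟩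
      · refine ⟨x, ?_, Or.inl rfl⟩
        rw [← hk, ← two_mul, zpow_mul, zpow_ofNat, hsq, one_zpow]
      · refine ⟨x + Pi.single none 1, ?_, Or.inr rfl⟩
        rw [zpow_add_one, zpow_mul, zpow_ofNat, hsq, one_zpow, one_mul] at hk
        rw [linAut_add, ← hk, ← extraAut, ← pow_two, hsq]
    have hzero : ∀ w : golayCode, pair x' w = 0 := fun w => congrFun (congrArg StdAut.sgn hx') w
    have hcoord : ∀ o < 11, coord (coordCocode.getD o 0) x' = 0 := by
      intro o ho
      have hc : isCode (coordCocode.getD o 0) = true := by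
        have hl : coordCocode.length = 11 := rfl
        rw [List.getD_eq_getElem _ _ (by omega)]
        exact List.all_eq_true.1 coord_code _ (List.getElem_mem _)
      rw [coord_eq_pairM]
      exact hzero ⟨_, (word_mem_iff (lt_of_isCode hc)).2 hc⟩
    have hmem : x' ∈ cocodeKer := by
      have := cocode_span x'
      rwa [show residue basisCocode coordCocode x' =
        x' - wordOf basisCocode fun o => coord (coordCocode.getD o 0) x' from rfl,
        wordOf_congr basisCocode (b := 0) hcoord,
        show wordOf basisCocode 0 = 0 by simp [wordOf], sub_zero] at this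
    rcases hker with rfl | rfl
    · exact hmem
    · have he : (Pi.single none 1 : GolayPt → ZMod 2) ∈ cocodeKer :=
        Or.inr (by rw [ZModModule.add_self]; exact zero_mem _)
      have := add_mem hmem he
      rwa [add_assoc, ZModModule.add_self, add_zero] at this
  · rintro (h | h)
    · refine Additive.toMul.injective (Subtype.ext ?_)
      show (QuotientGroup.mk (linAut x) : Ext) = 1
      rw [show linAut x = 1 from StdAut.ext' rfl (funext fun w => pair_code h w)]
      rfl
    · refine Additive.toMul.injective (Subtype.ext ?_)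
      show (QuotientGroup.mk (linAut x) : Ext) = 1
      rw [QuotientGroup.eq_one_iff, show linAut x = extraAut from StdAut.ext' rfl (funext fun w => by
        have h0 := pair_code h w
        rw [pair_add_left] at h0
        exact (by decide : ∀ p q : ZMod 2, p + q = 0 → p = q) _ _ h0)]
      exact Subgroup.mem_zpowers _

/-- The isomorphism of the quotient with `M23`. -/
noncomputable def extIso : Ext ⧸ extProj.ker ≃* ↥Spor.M23 :=
  QuotientGroup.quotientKerEquivOfSurjective extProj extProj_surjective

theorem extIso_mk (g : Ext) : extIso (QuotientGroup.mk g) = extProj g := rfl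

theorem extWord_conj (g : Ext) (w : GolayPt → ZMod 2) :
    ((extWord (w ∘ ⇑(((extIso (QuotientGroup.mk g) : ↥Spor.M23) :
        Equiv.Perm GolayPt)⁻¹))).toMul : Ext) = g * ((extWord w).toMul : Ext) * g⁻¹ := by
  obtain ⟨g, rfl⟩ := QuotientGroup.mk_surjective g
  rw [extWord_val, extWord_val, extIso_mk, ← QuotientGroup.mk_inv, ← QuotientGroup.mk_mul,
    ← QuotientGroup.mk_mul, conj_linAut, mul_inv_cancel_right]
  rfl

/-- Signs are determined by their values on the basis. -/
theorem sgn_eq_rec {g : StdAut} {p : ℕ} (hp : valid p = true)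
    (hg : (g.base : Equiv.Perm GolayPt) = toPerm p)
    (h0 : ∀ B ∈ basis, ∀ h : word B ∈ golayCode, g.sgn ⟨word B, h⟩ = 0) :
    ∀ k, ∀ h : word (enc k) ∈ golayCode, g.sgn ⟨word (enc k), h⟩ = sgnRec p basis k := by
  suffices key : ∀ L : List ℕ, (∀ B ∈ L, B ∈ basis) → ∀ k, ∀ h : word (comb L k) ∈ golayCode,
      g.sgn ⟨word (comb L k), h⟩ = sgnRec p L k from key basis fun _ h => h
  intro L
  induction L with
  | nil =>
    intro _ k h
    rw [show (⟨word (comb [] k), h⟩ : golayCode) = 0 from Subtype.ext word_zero]
    exact sgn_zero g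
  | cons B bs ih =>
    intro hL k h
    have hrec := ih (fun C hC => hL C (List.mem_cons_of_mem _ hC)) (k >>> 1)
      (word_comb_mem bs (fun C hC => word_basis_mem C (hL C (List.mem_cons_of_mem _ hC))) _)
    rw [sgnRec, ← hrec]
    by_cases hk : k &&& 1 = 1
    · have hB := word_basis_mem B (hL B (by simp))
      have hr : word (comb bs (k >>> 1)) ∈ golayCode :=
        word_comb_mem bs (fun C hC => word_basis_mem C (hL C (List.mem_cons_of_mem _ hC))) _
      rw [if_pos hk, show (⟨word (comb (B :: bs) k), h⟩ : golayCode) =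
        ⟨word B, hB⟩ + ⟨word (comb bs (k >>> 1)), hr⟩ from Subtype.ext (by
          show word (comb (B :: bs) k) = word B + word (comb bs (k >>> 1))
          rw [comb, if_pos hk, word_xor])]
      have hs := g.sol ⟨word B, hB⟩ ⟨word (comb bs (k >>> 1)), hr⟩
      rw [h0 B (hL B (by simp)) hB, add_zero] at hs
      have hd : defect g.base ⟨word B, hB⟩ ⟨word (comb bs (k >>> 1)), hr⟩ =
          defectM p B (comb bs (k >>> 1)) := by
        simp only [defect, defectM, perm, hg, word_comp_inv hp]
      rw [hd] at hs
      rw [← hs]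
      exact (by decide : ∀ a b : ZMod 2, a = a + b + b) _ _
    · rw [if_neg hk, zero_add]
      congr 1
      refine Subtype.ext ?_
      show word (comb (B :: bs) k) = word (comb bs (k >>> 1))
      rw [comb, if_neg hk, Nat.zero_xor]

theorem exists_low (c : ℕ → ZMod 2) :
    ∃ x : GolayPt → ZMod 2, ∀ j < 12, pairM x (basis.getD j 0) = c j := by
  classical
  refine ⟨fun p => if ix p < 12 then c (ix p) else 0, fun j hj => ?_⟩
  have hlow : ∀ j < 12, ∀ p : GolayPt, ix p < 12 →
      (basis.getD j 0).testBit (ix p) = decide (ix p = j) := by decide +kernel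
  generalize hB : basis.getD j 0 = B
  have hix : ix (pt j) = j := ix_pt (by omega)
  have hl : ∀ p : GolayPt, ix p < 12 → B.testBit (ix p) = decide (ix p = j) := by
    intro p hp; rw [← hB]; exact hlow j hj p hp
  rw [pairM, Finset.sum_eq_single (pt j)]
  · show (if ix (pt j) < 12 then c (ix (pt j)) else 0) * word B (pt j) = c j
    have hbit := hl (pt j) (by omega)
    rw [hix, decide_eq_true rfl] at hbit
    rw [hix, if_pos hj]
    show c j * (if _ then 1 else 0) = c j
    rw [hix, if_pos hbit]
    exact mul_one _
  · intro p _ hp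
    by_cases h : ix p < 12
    · have hne : ix p ≠ j := fun h' => hp (by rw [← h', pt_ix])
      show _ * word B p = 0
      rw [word, hl p h]
      simp [hne]
    · simp [h]
  · simp

theorem gens_code {a : ℕ} (ha : a < 7) :
    gens23.getD a idCode = symCocode.getD a idCode ∧ a < symCocode.length ∧
      valid (gens23.getD a idCode) = true := by
  have h : ∀ a < 7, gens23.getD a idCode = symCocode.getD a idCode ∧ a < symCocode.length ∧
      valid (gens23.getD a idCode) = true := by decide +kernel
  exact h a ha

/-- Lifts of the Sylow generators with no signs on the basis. -/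
theorem exists_normal_lift {a : ℕ} (_ha : a < 7) : ∃ g : StdAut,
    g.base = elt symCocode a ∧ ∀ B ∈ basis, ∀ h : word B ∈ golayCode, g.sgn ⟨word B, h⟩ = 0 := by
  classical
  obtain ⟨g, hg⟩ := baseHom_surjective (elt symCocode a)
  let c : ℕ → ZMod 2 := fun j =>
    if h : word (basis.getD j 0) ∈ golayCode then g.sgn ⟨_, h⟩ else 0
  obtain ⟨x, hx⟩ := exists_low c
  refine ⟨g * linAut x, (mul_one _).trans hg, fun B hB h => ?_⟩
  obtain ⟨j, hj, rfl⟩ := List.getElem_of_mem hB
  have hlen : basis.length = 12 := rfl
  have hget : basis.getD j 0 = basis[j] := List.getD_eq_getElem _ _ hj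
  show g.sgn (onCode 1 _) + pair x _ = 0
  rw [onCode_one]
  have hxj : pairM x basis[j] = g.sgn ⟨word basis[j], h⟩ := by
    have hm : word (basis.getD j 0) ∈ golayCode := by rw [hget]; exact h
    refine ((congrArg (pairM x) hget).symm.trans (hx j (by omega))).trans ?_
    simp only [c, dif_pos hm]
    exact congrArg g.sgn (Subtype.ext (congrArg word hget))
  show g.sgn _ + pairM x basis[j] = 0
  rw [hxj, CharTwo.add_self_eq_zero]

theorem isCode_actWord : ∀ w : List ℕ, (∀ a ∈ w, a < 7) → ∀ {m : ℕ}, isCode m = true →
    isCode (actWord w m) = true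
  | [], _, _, hm => hm
  | s :: w, hw, m, hm => by
    have hs : inStab [] (1 <<< 23) (gens23.getD s idCode) = true := by
      have h : ∀ a < 7, inStab [] (1 <<< 23) (gens23.getD a idCode) = true := by decide +kernel
      exact h s (hw s (by simp))
    simp only [inStab, Bool.and_eq_true] at hs
    exact isCode_act hs.1.1 (isCode_actWord w (fun a ha => hw a (List.mem_cons_of_mem _ ha)) hm)

/-- The signs of a word of normalised lifts. -/
theorem sgn_ev {X : ℕ → StdAut} (hX : ∀ a < 7, (X a).base = elt symCocode a ∧
    ∀ B ∈ basis, ∀ h : word B ∈ golayCode, (X a).sgn ⟨word B, h⟩ = 0) :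
    ∀ w : List ℕ, (∀ a ∈ w, a < 7) → ∀ {m : ℕ}, isCode m = true → ∀ h : word m ∈ golayCode,
      (Data.ev X w).sgn ⟨word m, h⟩ = wordSgn w m ∧
        perm (Data.ev X w).base (word m) = word (actWord w m)
  | [], _, m, _, h => ⟨rfl, by
      simp only [Data.ev, List.map_nil, List.prod_nil, actWord]
      exact perm_one _⟩
  | s :: w, hw, m, hm, h => by
    obtain ⟨hb, hz⟩ := hX s (hw s (by simp))
    obtain ⟨e1, e2⟩ := sgn_ev hX w (fun a ha => hw a (List.mem_cons_of_mem _ ha)) hm h
    obtain ⟨g1, g2, g3⟩ := gens_code (hw s (by simp))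
    have hval : ((X s).base : Equiv.Perm GolayPt) = toPerm (gens23.getD s idCode) := by
      rw [hb, (Setting.elt_val valid_cocode g2).1, g1]
    have hc := isCode_actWord w (fun a ha => hw a (List.mem_cons_of_mem _ ha)) hm
    have hev : Data.ev X (s :: w) = X s * Data.ev X w := by simp [Data.ev]
    rw [hev]
    refine ⟨?_, ?_⟩
    · show (X s).sgn (onCode (Data.ev X w).base ⟨word m, h⟩) + (Data.ev X w).sgn ⟨word m, h⟩ = _
      rw [e1, wordSgn]
      refine congrArg (· + wordSgn w m) ?_
      have henc : enc (actWord w m &&& 4095) = actWord w m := by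
        simpa [isCode] using hc
      have hmem : word (enc (actWord w m &&& 4095)) ∈ golayCode := by
        rw [henc]; exact (word_mem_iff (lt_of_isCode hc)).2 hc
      rw [← sgn_eq_rec g3 hval hz _ hmem]
      refine congrArg (X s).sgn (Subtype.ext ?_)
      show perm (Data.ev X w).base (word m) = word (enc _)
      rw [e2, henc]
    · rw [show (X s * Data.ev X w).base = (X s).base * (Data.ev X w).base from rfl, perm_mul, e2]
      show word (actWord w m) ∘ ⇑(((X s).base : Equiv.Perm GolayPt))⁻¹ = _
      rw [hval, word_comp_inv g3]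
      rfl

theorem sum_pairM_xcomb (x : GolayPt → ZMod 2) (F : List ℕ) (m : ℕ) :
    pairM x (xcomb F m) = dot F.length m fun o => pairM x (F.getD o 0) := by
  simp only [pairM, word_xcomb, Finset.sum_apply, dot, Finset.mul_sum]
  rw [Finset.sum_comm]
  refine Finset.sum_congr rfl fun o _ => ?_
  split_ifs <;> simp

theorem xcomb_zero : ∀ F : List ℕ, xcomb F 0 = 0
  | [] => rfl
  | a :: F => by simp [xcomb, xcomb_zero F]

theorem dot_foldr (n : ℕ) (W : ℕ → ZMod 2) (g : ℕ → ℕ) : ∀ L : List ℕ,
    dot n (L.foldr (fun k acc => g k ^^^ acc) 0) W = (L.map fun k => dot n (g k) W).sum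
  | [] => dot_zero_mask n W
  | a :: L => by rw [List.foldr_cons, dot_xor, dot_foldr n W g L, List.map_cons, List.sum_cons]

/-- The extension does not split. -/
theorem ext_nonsplit (L : Subgroup Ext) (h1 : L ⊓ extProj.ker = ⊥) : L ⊔ extProj.ker ≠ ⊤ := by
  classical
  intro h2
  obtain ⟨T, hT, hTi⟩ := exists_setting_cocode_iota extProj.ker extIso extWord extWord_surjective
    (fun _ => extWord_eq_zero) extWord_conj
  have hproj : ∀ g, T.proj g = extProj g := fun g => by rw [hT]; rfl
  choose! X hXb hXz using fun a (ha : a < 7) => exists_normal_lift ha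
  let X' : ℕ → Ext := fun s => if s < 7 then QuotientGroup.mk (X s) else T.lift symCocode s
  have hXP : ∀ a < 7, T.proj (X' a) = elt symCocode a := fun a ha => by
    rw [hproj]; simp only [X', if_pos ha]; exact hXb a ha
  have hYex : ∀ a < 7, ∃ l ∈ L, T.proj l = elt symCocode a := by
    intro a ha
    obtain ⟨l, hl, k, hk, he⟩ := Subgroup.mem_sup_of_normal_right.1
      (show X' a ∈ L ⊔ extProj.ker by rw [h2]; trivial)
    refine ⟨l, hl, ?_⟩
    rw [← hXP a ha, ← he, map_mul, show T.proj k = 1 by rw [hproj]; exact hk, mul_one]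
  choose! Y hYL hYP using hYex
  have hnex : ∀ a < 7, ∃ v, T.iota v * X' a = Y a := fun a ha => by
    obtain ⟨v, hv⟩ := (T.range (Y a * (X' a)⁻¹)).1 (by
      rw [map_mul, map_inv, hYP a ha, hXP a ha, mul_inv_cancel])
    exact ⟨v, by rw [hv, inv_mul_cancel_right]⟩
  choose! n hn using hnex
  let D0 : Data := { rules := [], mats := dataCocode.mats }
  have hlen : D0.mats.length = symCocode.length :=
    Setting.mats_length (D := dataCocode) valid_cocode
  have F : D0.Frame T.iota X' 0 := by
    refine ⟨T.add, T.inj, T.congr, fun s v => ?_, fun k hk => absurd hk (Nat.not_lt_zero k)⟩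
    by_cases hs : s < symCocode.length
    · have hp : T.proj (X' s) = elt symCocode s := by
        by_cases h7 : s < 7
        · exact hXP s h7
        · simp only [X', if_neg h7]; exact T.proj_lift hs
      rw [T.act, hp]
      exact congrArg (· * _) (T.congr _ _ (valid_cocode.mats s hs v))
    · have h7 : ¬ s < 7 := fun h => hs (gens_code h).2.1
      simp only [X', if_neg h7, Setting.lift, if_neg hs, one_mul, mul_one]
      exact T.congr _ _ fun i hi =>
        (Setting.mat_out (D := D0) (by rw [hlen]; exact hs) v i hi).symm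
  have hdelta : ∀ K w, D0.deltaL K w = dataCocode.deltaL K w := by
    intro K w
    induction w with
    | nil => rfl
    | cons s w ih => simp only [Data.deltaL, ih]; rfl
  let W : ℕ → ZMod 2 := fun i => n (i / 11) (i % 11)
  have hYshift : ∀ a < 7, T.iota (lvec 77 (idShift.getD a []) W) * X' a = Y a := by
    intro a ha
    rw [← hn a ha]
    refine congrArg (· * X' a) (T.congr _ _ fun o ho => ?_)
    have hid : idShift.getD a [] = (List.range 11).map fun o => 1 <<< (11 * a + o) := by
      rw [idShift, List.getD_eq_getElem _ _ (by simpa using ha), List.getElem_map,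
        List.getElem_range]
    rw [lvec, hid, Data.getD_map_range _ ho, dot_single _ _ (by omega)]
    show n ((11 * a + o) / 11) ((11 * a + o) % 11) = n a o
    rw [show (11 * a + o) / 11 = a by omega, show (11 * a + o) % 11 = o by omega]
  have hsmall : ∀ k < 28, (∀ a ∈ (pcRules.getD k ([], [])).1, a < 7) ∧
      ∀ a ∈ (pcRules.getD k ([], [])).2, a < 7 := by decide +kernel
  set Z : ℕ → Ext := fun s => T.iota (lvec 77 (idShift.getD s []) W) * X' s with hZ
  have hZL : ∀ w : List ℕ, (∀ a ∈ w, a < 7) → Data.ev Z w ∈ L := by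
    intro w hw
    refine Subgroup.list_prod_mem _ fun z hz => ?_
    obtain ⟨a, ha, rfl⟩ := List.mem_map.1 hz
    show T.iota _ * X' a ∈ L
    rw [hYshift a (hw a ha)]
    exact hYL a (hw a ha)
  have hZX : ∀ w : List ℕ, (∀ a ∈ w, a < 7) →
      Data.ev X' w = QuotientGroup.mk (Data.ev X w) := by
    intro w hw
    induction w with
    | nil => rfl
    | cons a w ih =>
      have ha : a < 7 := hw a (by simp)
      simp only [Data.ev, List.map_cons, List.prod_cons] at ih ⊢
      rw [ih fun b hb => hw b (List.mem_cons_of_mem _ hb), QuotientGroup.mk_mul]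
      simp only [X', if_pos ha]
  have hbase : ∀ w : List ℕ, (∀ a ∈ w, a < 7) →
      ((Data.ev X w).base : Equiv.Perm GolayPt) =
        ((w.map fun s => gens23.getD s idCode).map toPerm).prod ∧
      ∀ p ∈ w.map fun s => gens23.getD s idCode, valid p = true := by
    intro w hw
    refine ⟨?_, fun p hp => by
      obtain ⟨s, hs, rfl⟩ := List.mem_map.1 hp
      exact (gens_code (hw s hs)).2.2⟩
    induction w with
    | nil => rfl
    | cons a w ih =>
      have ha : a < 7 := hw a (by simp)
      obtain ⟨g1, g2, -⟩ := gens_code ha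
      simp only [Data.ev, List.map_cons, List.prod_cons] at ih ⊢
      rw [base_mul, Subgroup.coe_mul, ih fun b hb => hw b (List.mem_cons_of_mem _ hb), hXb a ha,
        (Setting.elt_val valid_cocode g2).1, g1]
  have key : ∀ k < 28, ∀ m, isCode m = true →
      actWord (pcRules.getD k ([], [])).2 m = xcomb coordCocode (witness.getD k 0) →
      wordSgn (pcRules.getD k ([], [])).1 m + wordSgn (pcRules.getD k ([], [])).2 m =
        dot 77 (xcomb ((List.range 11).map fun o =>
          (dataCocode.deltaL idShift (pcRules.getD k ([], [])).1).getD o 0 ^^^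
            (dataCocode.deltaL idShift (pcRules.getD k ([], [])).2).getD o 0)
          (witness.getD k 0)) W := by
    intro k hk m hm hact
    obtain ⟨hs1, hs2⟩ := hsmall k hk
    set l := (pcRules.getD k ([], [])).1 with hl
    set r := (pcRules.getD k ([], [])).2 with hr
    obtain ⟨b1, v1⟩ := hbase l hs1
    obtain ⟨b2, v2⟩ := hbase r hs2
    have hpc : SchurMult.GolayEngine.same (l.map fun s => gens23.getD s idCode)
        (r.map fun s => gens23.getD s idCode) = true := by
      have h : ∀ k < 28, SchurMult.GolayEngine.same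
          ((pcRules.getD k ([], [])).1.map fun s => gens23.getD s idCode)
          ((pcRules.getD k ([], [])).2.map fun s => gens23.getD s idCode) = true := by
        decide +kernel
      exact h k hk
    have hbeq : (Data.ev X l).base = (Data.ev X r).base :=
      Subtype.ext (by rw [b1, b2, SchurMult.GolayEngine.same_spec v1 v2 hpc])
    obtain ⟨x, hx⟩ := exists_linAut (g := Data.ev X l * (Data.ev X r)⁻¹)
      (by rw [base_mul]; show (Data.ev X l).base * (Data.ev X r).base⁻¹ = 1
          rw [hbeq, mul_inv_cancel])
    have hrel : Data.ev Z l = Data.ev Z r := by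
      refine mul_inv_eq_one.1 (Subgroup.mem_bot.1 (h1 ▸ Subgroup.mem_inf.2
        ⟨L.mul_mem (hZL l hs1) (L.inv_mem (hZL r hs2)), ?_⟩))
      rw [MonoidHom.mem_ker, hZ, F.delta 77 W idShift l, F.delta 77 W idShift r, map_mul, map_inv,
        map_mul, map_mul, ← hproj, ← hproj, ← hproj, ← hproj, T.proj_iota, T.proj_iota, one_mul,
        one_mul, hproj, hproj, hZX l hs1, hZX r hs2]
      show (Data.ev X l).base * (Data.ev X r).base⁻¹ = 1
      rw [hbeq, mul_inv_cancel]
    rw [hZ, F.delta 77 W idShift l, F.delta 77 W idShift r, hZX l hs1, hZX r hs2,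
      show Data.ev X l = linAut x * Data.ev X r by rw [hx, inv_mul_cancel_right],
      QuotientGroup.mk_mul, ← mul_assoc] at hrel
    have hiota : T.iota (fun o => lvec 77 (D0.deltaL idShift l) W o +
        lvec 77 (D0.deltaL idShift r) W o) = QuotientGroup.mk (linAut x) := by
      have h3 := mul_right_cancel hrel
      rw [show (fun o => lvec 77 (D0.deltaL idShift l) W o + lvec 77 (D0.deltaL idShift r) W o) =
        lvec 77 (D0.deltaL idShift l) W + lvec 77 (D0.deltaL idShift r) W from rfl, T.add, ← h3,
        ← mul_assoc, F.self_mul, one_mul]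
    obtain ⟨c1, c2⟩ := sgn_ev (fun a ha => ⟨hXb a ha, hXz a ha⟩) r hs2 hm
      ((word_mem_iff (lt_of_isCode hm)).2 hm)
    obtain ⟨d1, -⟩ := sgn_ev (fun a ha => ⟨hXb a ha, hXz a ha⟩) l hs1 hm
      ((word_mem_iff (lt_of_isCode hm)).2 hm)
    rw [← c1, ← d1, show Data.ev X l = linAut x * Data.ev X r by rw [hx, inv_mul_cancel_right],
      sgn_mul]
    have hpm : (linAut x).sgn (onCode (Data.ev X r).base
        ⟨word m, (word_mem_iff (lt_of_isCode hm)).2 hm⟩) =
        pairM x (xcomb coordCocode (witness.getD k 0)) := by
      show ∑ p, x p * perm (Data.ev X r).base (word m) p = _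
      rw [c2, hact]
      rfl
    rw [add_assoc, CharTwo.add_self_eq_zero, add_zero, hpm, sum_pairM_xcomb,
      show coordCocode.length = 11 from rfl, dot_xcomb, List.length_map, List.length_range]
    refine Finset.sum_congr rfl fun o ho => ?_
    dsimp only
    rw [Data.getD_map_range _ (Finset.mem_range.1 ho), dot_xor, ← coord_eq_pairM]
    refine ite_congr rfl (fun _ => ?_) fun _ => rfl
    -- compare coordinates in the module
    set u : ℕ → ZMod 2 := fun o => lvec 77 (D0.deltaL idShift l) W o +
      lvec 77 (D0.deltaL idShift r) W o with hu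
    rw [hTi u, ← extWord_val x] at hiota
    have hw : extWord (wordOf basisCocode u - x) = 0 := by
      rw [map_sub, sub_eq_zero]
      exact Additive.toMul.injective (Subtype.ext hiota)
    have hker := coord_cocodeKer (Finset.mem_range.1 ho) (extWord_eq_zero.1 hw)
    rw [show coord (coordCocode.getD o 0) (_ - _) = _ from (coordHom _).map_sub _ _,
      sub_eq_zero] at hker
    refine hker.symm.trans ((coord_wordOf dual_cocode u (Finset.mem_range.1 ho)).trans ?_)
    simp only [hu, lvec, hdelta]
  -- the functional
  set g : ℕ → ℕ := fun k => xcomb ((List.range 11).map fun o =>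
      (dataCocode.deltaL idShift (pcRules.getD k ([], [])).1).getD o 0 ^^^
        (dataCocode.deltaL idShift (pcRules.getD k ([], [])).2).getD o 0)
      (witness.getD k 0) with hg
  have hterm : ∀ k ∈ Finset.range 28, (if witness.getD k 0 = 0 then (0 : ZMod 2) else
      wordSgn (pcRules.getD k ([], [])).1 (witnessPre.getD k 0) +
        wordSgn (pcRules.getD k ([], [])).2 (witnessPre.getD k 0)) = dot 77 (g k) W := by
    intro k hk
    by_cases hw : witness.getD k 0 = 0
    · rw [if_pos hw]
      show (0 : ZMod 2) = dot 77 (xcomb _ _) W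
      rw [hw, xcomb_zero, dot_zero_mask]
    · rw [if_neg hw]
      have h := List.all_eq_true.1 witness_pre k (List.mem_range.2 (Finset.mem_range.1 hk))
      rw [Bool.and_eq_true, beq_iff_eq] at h
      exact key k (Finset.mem_range.1 hk) _ h.1 h.2
  have h0 : ∑ k ∈ Finset.range 28, dot 77 (g k) W = 0 := by
    refine ((dot_foldr 77 W g (List.range 28)).symm.trans ?_)
    rw [hg]
    exact (congrArg (fun z => dot 77 z W) witness_kills).trans (dot_zero_mask 77 W)
  have h := witness_value
  rw [Finset.sum_congr rfl hterm, h0] at h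
  exact zero_ne_one h

end Cfsg.Agent.Lib.TailCert.Parker
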